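import Cfsg.Agent.Co1Suz.Three
import Cfsg.Agent.Co1Five.Main
import Cfsg.Agent.J2U.CentX

/-!
The element of order three is a product of commutators in its centraliser: it lies in a group of Hall–Janko type
inside the centraliser of an element of order five, where it is the centre of a Sylow three-subgroup.
-/

set_option autoImplicit false
set_option maxRecDepth 100000
set_option synthInstance.maxSize 4096
set_option linter.style.haveILetI false
set_option linter.unusedSectionVars false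

namespace CfsgLib.Co1Suz

open CfsgLib CfsgLib.Quad CfsgLib.Co1Invol CfsgLib.Co1Five Subgroup
open CfsgLib.HJT (V5 Ev wt dot sing IsInv5)

local notation "pa" => CfsgLib.HJT.act

universe u

variable {G : Type u} [Group G] [Finite G] {z : G}

/-- A subgroup over a non-degenerate space is extraspecial, of twice the order of the space. -/
theorem extraspecial_of_image (D : Dat z) (R : Subgroup G) (hR : R ≤ D.Q) (hz : z ∈ R) (S : Finset M8)
    (hS : ∀ m, m ∈ S ↔ ∃ r ∈ R, D.π r = m) (hnd : ∀ m ∈ S, (∀ n ∈ S, bf m n = 0) → m = 0)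
    (hne : ∃ m ∈ S, m ≠ 0) :
    Cfsg.IsExtraspecial 2 R ∧ Nat.card R = 2 * S.card := by
  classical
  haveI : Fact (Nat.Prime 2) := ⟨Nat.prime_two⟩
  have hz1 : z ≠ 1 := D.pre.gen.ne_one
  let zR : R := ⟨z, hz⟩
  have hcen : ∀ w : R, w ∈ center R ↔ D.π (w : G) = 0 := by
    intro w
    constructor
    · intro hw
      refine hnd _ ((hS _).2 ⟨w, w.2, rfl⟩) fun n hn => ?_
      obtain ⟨r, hr, rfl⟩ := (hS n).1 hn
      exact (D.comm_iff _ (hR w.2) r (hR hr)).1 (congrArg Subtype.val (mem_center_iff.1 hw ⟨r, hr⟩)).symm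
    · intro h
      refine mem_center_iff.2 fun r => Subtype.ext ?_
      exact ((D.comm_iff _ (hR w.2) _ (hR r.2)).2 (by rw [h, bf_zero_left])).symm
  have hzero : ∀ w : R, D.π (w : G) = 0 ↔ w = 1 ∨ w = zR := fun w => by
    rw [D.π_eq_zero _ (hR w.2)]
    exact ⟨fun h => h.imp (fun e => Subtype.ext e) (fun e => Subtype.ext e),
      fun h => h.imp (fun e => by rw [e]; rfl) (fun e => by rw [e])⟩
  let φ : R →* Multiplicative M8 := MonoidHom.mk' (fun r => Multiplicative.ofAdd (D.π (r : G)))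
    fun a b => by
      show Multiplicative.ofAdd (D.π ((a : G) * (b : G))) = _
      rw [D.π_mul _ (hR a.2) _ (hR b.2), ofAdd_add]
  have hker : φ.ker = center R := by
    ext w
    rw [MonoidHom.mem_ker, hcen]
    exact ⟨fun h => Multiplicative.ofAdd.injective h, fun h => congrArg Multiplicative.ofAdd h⟩
  have hc2 : Nat.card (center R) = 2 := by
    rw [Nat.card_eq_two_iff]
    refine ⟨1, ⟨zR, (hcen _).2 ((hzero _).2 (Or.inr rfl))⟩, fun e => hz1
      (congrArg (fun t : center R => ((t : R) : G)) e).symm, Set.eq_univ_of_forall fun w => ?_⟩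
    rcases (hzero w.1).1 ((hcen _).1 w.2) with e | e
    · exact Or.inl (Subtype.ext e)
    · exact Or.inr (Subtype.ext e)
  have hcard : Nat.card R = 2 * S.card := by
    have h := φ.ker.card_mul_index
    rw [Subgroup.index_ker, hker, hc2] at h
    rw [← h]
    congr 1
    rw [← Nat.card_eq_finsetCard]
    refine Nat.card_congr ((Equiv.subtypeEquiv Multiplicative.toAdd fun m => ?_))
    constructor
    · rintro ⟨r, rfl⟩; exact (hS _).2 ⟨r, r.2, rfl⟩
    · intro hm
      obtain ⟨r, hr, e⟩ := (hS _).1 hm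
      exact ⟨⟨r, hr⟩, by show Multiplicative.ofAdd (D.π r) = m; rw [e]; rfl⟩
  refine ⟨Monster.isExtraspecial_of (fun r => ?_) hc2 (fun a b => ?_) (fun a => ?_) ?_, hcard⟩
  · refine ⟨2, Subtype.ext ?_⟩
    show (r : G) ^ 2 ^ 2 = 1
    rw [show (2 : ℕ) ^ 2 = 2 * 2 from rfl, pow_mul, pow_two]
    rcases D.pre.gen.square _ (hR r.2) with e | e
    · rw [pow_two, e, one_mul]
    · rw [pow_two, e]; exact D.pre.gen.sq
  · rw [← hker, MonoidHom.mem_ker, map_mul, map_mul, map_mul, map_inv, map_inv, mul_comm (φ a), mul_inv_cancel_right,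
      mul_inv_cancel]
  · rw [← hker, MonoidHom.mem_ker, map_mul]
    show Multiplicative.ofAdd (D.π (a : G) + D.π (a : G)) = 1
    rw [Co1Invol.add_self]; rfl
  · obtain ⟨m, hm, hm0⟩ := hne
    obtain ⟨n, hn, hmn⟩ : ∃ n ∈ S, bf m n ≠ 0 := by
      by_contra hc
      push Not at hc
      exact hm0 (hnd m hm hc)
    obtain ⟨a, ha, rfl⟩ := (hS m).1 hm
    obtain ⟨b, hb, rfl⟩ := (hS n).1 hn
    exact ⟨⟨a, ha⟩, ⟨b, hb⟩, fun e => hmn ((D.comm_iff a (hR ha) b (hR hb)).1 (congrArg Subtype.val e))⟩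

/-- The first block. -/
def firstBlock : Finset M8 := Finset.univ.filter fun m => dec2 m = 0

theorem firstBlock_facts : firstBlock.card = 16 ∧
    (∀ m ∈ firstBlock, (∀ n ∈ firstBlock, bf m n = 0) → m = 0) ∧ ∃ m ∈ firstBlock, m ≠ 0 := by decide +kernel

theorem Q1_facts (D : Dat z) : Cfsg.IsExtraspecial 2 (Q1 D) ∧ Nat.card (Q1 D) = 32 := by
  obtain ⟨h16, hnd, hne⟩ := firstBlock_facts
  obtain ⟨h1, h2⟩ := extraspecial_of_image D (Q1 D) (fun q hq => hq.1) (z_Q1 D) firstBlock (fun m => by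
    simp only [firstBlock, Finset.mem_filter, Finset.mem_univ, true_and]
    refine ⟨fun h => ?_, ?_⟩
    · obtain ⟨q, hq, e⟩ := D.π_surj m
      exact ⟨q, ⟨hq, by rw [e]; exact h⟩, e⟩
    · rintro ⟨r, hr, rfl⟩; exact hr.2) hnd hne
  exact ⟨h1, by rw [h2, h16]⟩

theorem Five.exists_loc {D : Dat z} {b : G} (F : Five D b) {g₀ : G} (h₀ : g₀ * z * g₀⁻¹ ∈ D.Q)
    (hne : g₀ * z * g₀⁻¹ ≠ z) {x₀ : G} (S : Split D b x₀) :
    ∃ (zH : ↥(centralizer (compl b x₀ : Set G))) (QH : Subgroup ↥(centralizer (compl b x₀ : Set G)))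
      (a : Fin 5 → ↥(centralizer (compl b x₀ : Set G)))
      (π : ↥(centralizer (compl b x₀ : Set G)) → Equiv.Perm (Fin 5)),
      (zH : G) = z ∧ CfsgLib.HJT.Loc zH QH a π := by
  classical
  haveI : Fact (Nat.Prime 2) := ⟨Nat.prime_two⟩
  set H := centralizer (compl b x₀ : Set G) with hH
  have hzH : z ∈ H := mem_cent_compl.2 ⟨z_comm S.C, z_comm F.C⟩
  set zH : H := ⟨z, hzH⟩ with hzH'
  have hzo : orderOf zH = 2 := by rw [← Subgroup.orderOf_coe]; exact Extra2.orderOf_gen D.pre.gen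
  set C := centralizer ({zH} : Set H) with hC
  have hCz : ∀ c : H, c ∈ C ↔ (c : G) ∈ centralizer ({z} : Set G) := fun c => by
    rw [hC, mem_centralizer_singleton_iff, mem_Cz, Subtype.ext_iff]; rfl
  have hform : ∀ c : C, ∃ σ, Equiv.Perm.sign σ = 1 ∧ hact D ((c : H) : G) = iota (σ, 1) := fun c =>
    ((F.cent_compl S ((hCz _).1 c.2)).1 (c : H).2).2
  choose sf hsf hact' using hform
  let f : C →* Equiv.Perm (Fin 5) := MonoidHom.mk' sf fun c d => by
    have h := hact' (c * d)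
    rw [show (((c * d : C) : H) : G) = ((c : H) : G) * ((d : H) : G) from rfl,
      hact_mul ((hCz _).1 c.2) ((hCz _).1 d.2), hact', hact', ← map_mul, Prod.mk_mul_mk, mul_one] at h
    exact (congrArg Prod.fst (iota_injective h)).symm
  have hfa : ∀ c : C, hact D ((c : H) : G) = iota (f c, 1) := hact'
  have hlift : ∀ σ, Equiv.Perm.sign σ = 1 → ∃ c : C, f c = σ := fun σ hσ => by
    obtain ⟨c, hc, hcb, ha⟩ := F.lift hσ
    have hcH : c ∈ H := (F.cent_compl S hc).2 ⟨hcb, σ, hσ, ha⟩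
    refine ⟨⟨⟨c, hcH⟩, (hCz _).2 hc⟩, ?_⟩
    have h := hfa ⟨⟨c, hcH⟩, (hCz _).2 hc⟩
    rw [show hact D c = iota (f ⟨⟨c, hcH⟩, (hCz _).2 hc⟩, 1) from h] at ha
    exact congrArg Prod.fst (iota_injective ha)
  have hran : f.range = alternatingGroup (Fin 5) := by
    ext σ
    rw [Equiv.Perm.mem_alternatingGroup]
    exact ⟨fun ⟨c, e⟩ => e ▸ hsf c, fun h => hlift σ h⟩
  set QH := (Q1 D).subgroupOf H with hQH
  have hQle : Q1 D ≤ H := fun q hq => F.Q1_cent S hq
  have hQC : QH ≤ C := fun q hq => (hCz q).2 (mem_C D (mem_subgroupOf.1 hq).1)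
  obtain ⟨hQe, hQc⟩ := Q1_facts D
  set QC := QH.subgroupOf C with hQC'
  have hQCe : Cfsg.IsExtraspecial 2 QC := LargeExtra.isExtraspecial_equiv
    ((subgroupOfEquivOfLe hQle).symm.trans (subgroupOfEquivOfLe hQC).symm) hQe
  have hQCc : Nat.card QC = 2 ^ 5 := by
    rw [Nat.card_congr (subgroupOfEquivOfLe hQC).toEquiv, Nat.card_congr (subgroupOfEquivOfLe hQle).toEquiv, hQc]
    norm_num
  have hker : QC = f.ker := by
    ext c
    rw [hQC', mem_subgroupOf, hQH, mem_subgroupOf, MonoidHom.mem_ker]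
    constructor
    · intro h
      have h' := hfa c
      rw [hact_Q h.1, ← map_one iota] at h'
      exact (congrArg Prod.fst (iota_injective h')).symm
    · intro h
      have hQ' : ((c : H) : G) ∈ D.Q := mem_Q_of_hact ((hCz _).1 c.2) (by rw [hfa, h]; exact map_one iota)
      exact (F.mem_Q1 hQ').1 (mem_cent_compl.1 (c : H).2).2.symm
  haveI : QC.Normal := hker ▸ MonoidHom.normal_ker f
  have hcq : centralizer (QC : Set C) ≤ QC := by
    intro c hc
    rw [hker, MonoidHom.mem_ker]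
    refine perm_ext fun v hv => ?_
    obtain ⟨q, hq, hqπ⟩ := exists_Q1 D hv
    have hqC : (⟨q, hQle hq⟩ : H) ∈ C := hQC (mem_subgroupOf.2 hq)
    have hh : ((c : H) : G) * q = q * ((c : H) : G) := congrArg (fun t : C => ((t : H) : G))
      (mem_centralizer_iff.1 hc ⟨⟨q, hQle hq⟩, hqC⟩ (mem_subgroupOf.2 (mem_subgroupOf.2 hq))).symm
    have h' := (π_conj ((hCz _).1 c.2) hq.1).2
    rw [show ((c : H) : G) * q * ((c : H) : G)⁻¹ = q by rw [hh]; group, hfa c, hqπ, iota_enc _ _ hv ev_zero,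
      CfsgLib.HJT.act_one] at h'
    rw [CfsgLib.HJT.act_one]
    exact (enc_inj hv ev_zero (ev_pa _ hv) ev_zero h').1.symm
  obtain ⟨s, hs, hsπ⟩ := exists_Q1 D (ev_sing' 0)
  have hs2 : qf (D.π s) = 0 := by
    rw [hsπ, qf_enc _ _ (ev_sing' 0) ev_zero, CfsgLib.HJT.wt_sing, CfsgLib.HJT.wt_zero, add_zero]
  have hs0 : D.π s ≠ 0 := by
    rw [hsπ, ← enc_zero]
    exact fun e => CfsgLib.HJT.sing_ne_zero 0 (enc_inj (ev_sing' 0) ev_zero ev_zero ev_zero e).1
  have hsz : s ≠ z := fun e => hs0 (by rw [e, π_z])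
  obtain ⟨k, hk, hkz⟩ := F.move_compl S h₀ hne hs hs2 hs0
  have hks : (⟨k, hk⟩ : H) * zH * (⟨k, hk⟩ : H)⁻¹ = ⟨s, hQle hs⟩ := Subtype.ext hkz
  obtain ⟨x₁, hx₁C, hx₁b, hx₁₂, σ₁, hσ₁, hx₁a⟩ := F.exists_invol h₀ hne
  have hx₁H : x₁ ∈ H := (F.cent_compl S hx₁C).2 ⟨hx₁b, σ₁, hσ₁.2.2, hx₁a⟩
  have hx₁o : orderOf x₁ = 2 := orderOf_eq_prime (by rw [pow_two, hx₁₂]) fun e => hσ₁.2.1 (by
    rw [e, hact_Q (one_mem _), ← map_one iota] at hx₁a
    exact (congrArg Prod.fst (iota_injective hx₁a)).symm)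
  have hnc : ¬ IsConj z x₁ := not_conj_invol h₀ hne hx₁C hx₁₂ hσ₁ hx₁a
  obtain ⟨Qg, a, π, L⟩ := CfsgLib.HJT.exists_loc_alt zH hzo QC hcq hQCe hQCc
    (((QuotientGroup.quotientMulEquivOfEq hker).trans (QuotientGroup.quotientKerEquivRange f)).trans
      (MulEquiv.subgroupCongr hran))
    ⟨⟨k, hk⟩, ⟨by rw [hks]; exact hQC (mem_subgroupOf.2 hs),
      mem_subgroupOf.2 (mem_subgroupOf.2 (show k * z * k⁻¹ ∈ Q1 D by rw [hkz]; exact hs))⟩,
      fun e => hsz (by rw [hks] at e; exact congrArg Subtype.val e)⟩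
    ⟨zH, ⟨x₁, hx₁H⟩, hzo, by rw [← Subgroup.orderOf_coe]; exact hx₁o, fun h => hnc (H.subtype.map_isConj h)⟩
  exact ⟨zH, Qg, a, π, rfl, L⟩

/-- In a group of Hall–Janko type, an element of order three of the involution centraliser is a commutator in
its centraliser, up to a power. -/
theorem exists_commutator_of_loc {H : Type*} [Group H] [Finite H] {zH : H} {QH : Subgroup H} {a : Fin 5 → H}
    {π : H → Equiv.Perm (Fin 5)} (L : CfsgLib.HJT.Loc zH QH a π) {xH : H} (hxC : xH * zH = zH * xH)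
    (hx3 : orderOf xH = 3) :
    ∃ p q : H, p * xH = xH * p ∧ q * xH = xH * q ∧ xH ∈ zpowers (p * q * p⁻¹ * q⁻¹) := by
  classical
  haveI : Fact (Nat.Prime 3) := ⟨Nat.prime_three⟩
  obtain ⟨t, W, M, x, y, T⟩ := L.exists_three_data
  obtain ⟨P, hxP, -, hPx, ⟨-, hnab⟩, -⟩ := L.three_main T
  have hPc : Nat.card P = 27 := L.card_sylow_three P
  -- commutators of the Sylow subgroup are powers of the central element
  have hcomm : ∀ p q : (P : Subgroup H), ((p * q * p⁻¹ * q⁻¹ : (P : Subgroup H)) : H) ∈ zpowers x := by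
    set xP : (P : Subgroup H) := ⟨x, hxP⟩
    have hxc : xP ∈ center (P : Subgroup H) := mem_center_iff.2 fun g => Subtype.ext (hPx g g.2)
    have hPp : IsPGroup 3 (P : Subgroup H) := P.isPGroup'
    have hdvd := card_subgroup_dvd_card (center (P : Subgroup H))
    have hxo : orderOf xP = 3 := by rw [← Subgroup.orderOf_coe]; exact T.x3
    have h3 : 3 ∣ Nat.card (center (P : Subgroup H)) := by
      have := Subgroup.orderOf_dvd_natCard _ hxc
      rwa [hxo] at this
    rw [hPc] at hdvd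
    obtain ⟨k, hk, hk'⟩ := (Nat.dvd_prime_pow Nat.prime_three).1 (show _ ∣ 3 ^ 3 by norm_num; exact hdvd)
    have hquot := Subgroup.card_eq_card_quotient_mul_card_subgroup (center (P : Subgroup H))
    rw [hPc, hk'] at hquot
    have hk1 : k = 1 := by
      interval_cases k
      · rw [hk'] at h3; norm_num at h3
      · rfl
      · exfalso
        have hq : Nat.card ((P : Subgroup H) ⧸ center (P : Subgroup H)) = 3 := by omega
        haveI := isCyclic_of_prime_card hq
        refine hnab fun p q => ?_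
        exact commutative_of_cyclic_center_quotient (QuotientGroup.mk' (center (P : Subgroup H)))
          (by rw [QuotientGroup.ker_mk']) p q
      · exfalso
        have htop : center (P : Subgroup H) = ⊤ := Subgroup.eq_top_of_card_eq _ (by rw [hk', hPc]; norm_num)
        exact hnab fun p q => (mem_center_iff.1 (htop ▸ mem_top q) p)
    subst hk1
    have hzc : zpowers xP = center (P : Subgroup H) := eq_of_le_of_card_ge (zpowers_le.2 hxc)
      (by rw [hk', Nat.card_zpowers, hxo]; norm_num)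
    have hq9 : Nat.card ((P : Subgroup H) ⧸ center (P : Subgroup H)) = 3 ^ 2 := by norm_num at hquot ⊢; omega
    intro p q
    have hmem : p * q * p⁻¹ * q⁻¹ ∈ center (P : Subgroup H) := by
      rw [← QuotientGroup.eq_one_iff, QuotientGroup.mk_mul, QuotientGroup.mk_mul, QuotientGroup.mk_mul,
        QuotientGroup.mk_inv, QuotientGroup.mk_inv]
      haveI := IsPGroup.isMulCommutative_of_card_eq_prime_sq hq9
      rw [mul_comm' (p : (P : Subgroup H) ⧸ center (P : Subgroup H)), mul_inv_cancel_right, mul_inv_cancel]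
    rw [← hzc] at hmem
    obtain ⟨i, hi⟩ := mem_zpowers_iff.1 hmem
    exact mem_zpowers_iff.2 ⟨i, by rw [← hi]; rfl⟩
  obtain ⟨p, q, hpq⟩ : ∃ p q : (P : Subgroup H), p * q ≠ q * p := by
    by_contra hc
    push Not at hc
    exact hnab hc
  set w : H := ((p * q * p⁻¹ * q⁻¹ : (P : Subgroup H)) : H) with hw
  have hw1 : w ≠ 1 := fun e => hpq (mul_inv_eq_iff_eq_mul.1 (mul_inv_eq_one.1 (Subtype.ext e)))
  have hwz : zpowers w = zpowers x := eq_of_le_of_card_ge (zpowers_le.2 (hcomm p q)) (by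
    rw [Nat.card_zpowers, T.x3, Nat.card_zpowers]
    have hd : orderOf w ∣ 3 := T.x3 ▸ (Nat.card_zpowers x ▸ Subgroup.orderOf_dvd_natCard _ (hcomm p q))
    rcases (Nat.dvd_prime Nat.prime_three).1 hd with e | e
    · exact absurd (orderOf_eq_one_iff.1 e) hw1
    · omega)
  -- move the element onto the model one
  set C := centralizer ({zH} : Set H) with hC
  have hxC' : xH ∈ C := mem_centralizer_singleton_iff.2 hxC
  have hyC : x ∈ C := CfsgLib.J2U.x_mem_cz L T
  have hfac : (Nat.card C).factorization 3 = 1 := by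
    rw [hC, L.cardC, show 1920 = 3 ^ 1 * 640 by norm_num, Nat.factorization_mul (by norm_num) (by norm_num)]
    simp [Nat.prime_three.factorization, Nat.factorization_eq_zero_of_not_dvd]
  have key : ∀ (g : H) (hg : g ∈ C), orderOf g = 3 → ∃ P : Sylow 3 C, (P : Subgroup C) = zpowers ⟨g, hg⟩ :=
    fun g hg ho => ⟨Sylow.ofCard (zpowers (⟨g, hg⟩ : C)) (by
      rw [hfac, pow_one, Nat.card_zpowers, ← Subgroup.orderOf_coe]; exact ho), rfl⟩
  obtain ⟨P₁, hP₁⟩ := key xH hxC' hx3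
  obtain ⟨P₂, hP₂⟩ := key x hyC T.x3
  obtain ⟨c, hc⟩ := MulAction.exists_smul_eq C P₁ P₂
  have hmem : c * ⟨xH, hxC'⟩ * c⁻¹ ∈ zpowers (⟨x, hyC⟩ : C) := by
    rw [← hP₂, ← hc]
    exact mem_map.2 ⟨⟨xH, hxC'⟩, hP₁ ▸ mem_zpowers _, rfl⟩
  obtain ⟨i, hi⟩ := mem_zpowers_iff.1 hmem
  have hi' : (c : H) * xH * (c : H)⁻¹ = x ^ i := by
    have := congrArg Subtype.val hi
    simpa using this.symm
  refine ⟨(c : H)⁻¹ * p * c, (c : H)⁻¹ * q * c, ?_, ?_, ?_⟩
  · have h := ((show Commute (p : H) x from hPx p p.2).zpow_right i).eq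
    rw [← hi'] at h
    calc (c : H)⁻¹ * p * c * xH = (c : H)⁻¹ * ((p : H) * ((c : H) * xH * (c : H)⁻¹)) * c := by group
      _ = xH * ((c : H)⁻¹ * p * c) := by rw [h]; group
  · have h := ((show Commute (q : H) x from hPx q q.2).zpow_right i).eq
    rw [← hi'] at h
    calc (c : H)⁻¹ * q * c * xH = (c : H)⁻¹ * ((q : H) * ((c : H) * xH * (c : H)⁻¹)) * c := by group
      _ = xH * ((c : H)⁻¹ * q * c) := by rw [h]; group
  · have hwm : (c : H) * xH * (c : H)⁻¹ ∈ zpowers w := by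
      rw [hwz, hi']; exact zpow_mem (mem_zpowers x) i
    obtain ⟨j, hj⟩ := mem_zpowers_iff.1 hwm
    refine mem_zpowers_iff.2 ⟨j, ?_⟩
    have e : (c : H)⁻¹ * p * c * ((c : H)⁻¹ * q * c) * ((c : H)⁻¹ * p * c)⁻¹ * ((c : H)⁻¹ * q * c)⁻¹ =
        (c : H)⁻¹ * w * ((c : H)⁻¹)⁻¹ := by
      rw [hw]; push_cast; group
    rw [e, conj_zpow, hj]
    group

/-- The element of order three lies in the derived subgroup of its centraliser. -/
theorem Three.mem_commutator {D : Dat z} {x : G} (T : Three D x) {g₀ : G} (h₀ : g₀ * z * g₀⁻¹ ∈ D.Q)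
    (hne : g₀ * z * g₀⁻¹ ≠ z) :
    (⟨x, mem_centralizer_singleton_iff.2 rfl⟩ : ↥(centralizer ({x} : Set G))) ∈
      commutator ↥(centralizer ({x} : Set G)) := by
  obtain ⟨b, F, hxb⟩ := T.exists_five
  obtain ⟨x₀, S⟩ := F.exists_split h₀ hne
  obtain ⟨zH, QH, a, π, hz, L⟩ := Five.exists_loc F h₀ hne S
  have hxH : x ∈ centralizer (compl b x₀ : Set G) := (F.cent_compl S T.C).2 ⟨hxb, σ3, σ3_sign, T.eq⟩
  obtain ⟨p, q, hp, hq, hmem⟩ := exists_commutator_of_loc L (xH := ⟨x, hxH⟩)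
    (Subtype.ext (by
      show x * (zH : G) = (zH : G) * x
      rw [hz]; exact mem_centralizer_singleton_iff.1 T.C))
    (by rw [← Subgroup.orderOf_coe]; exact T.order)
  obtain ⟨j, hj⟩ := mem_zpowers_iff.1 hmem
  let p' : ↥(centralizer ({x} : Set G)) := ⟨(p : G), mem_centralizer_singleton_iff.2 (congrArg Subtype.val hp)⟩
  let q' : ↥(centralizer ({x} : Set G)) := ⟨(q : G), mem_centralizer_singleton_iff.2 (congrArg Subtype.val hq)⟩
  have hm : (p' * q' * p'⁻¹ * q'⁻¹) ^ j ∈ commutator ↥(centralizer ({x} : Set G)) := by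
    refine zpow_mem ?_ j
    rw [_root_.commutator_def, ← commutatorElement_def]
    exact commutator_mem_commutator (mem_top _) (mem_top _)
  convert hm using 1
  refine Subtype.ext ?_
  have := congrArg Subtype.val hj
  simpa [p', q'] using this.symm

end CfsgLib.Co1Suz
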