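import Cfsg.Agent.Co1Suz.Three
import Cfsg.Agent.Co1Invol.Twist

/-!
The central involution moves inside the centraliser of the element of order three.
-/

set_option autoImplicit false
set_option maxRecDepth 100000
set_option synthInstance.maxSize 4096
set_option linter.style.haveILetI false
set_option linter.unusedSectionVars false

namespace CfsgLib.Co1Suz

open CfsgLib CfsgLib.Quad CfsgLib.Co1Invol CfsgLib.Co1Five Subgroup
open CfsgLib.HJT (V5 Ev wt dot sing)

/-- The fixed vectors in the complement of the hyperbolic pair. -/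
def fixW : Finset M8 :=
  Finset.univ.filter fun v => bf v e0 = 0 ∧ bf v f0 = 0 ∧ iotaFun (σ3, 1) v = v

theorem card_fixW : fixW.card = 16 := by decide +kernel

theorem g3_pair : iotaFun (σ3, 1) e0 = e0 ∧ iotaFun (σ3, 1) f0 = f0 := by decide +kernel

theorem mem_fixW {v : M8} (h : v ∈ fixW) : v ∈ wList ∧ red v = v ∧ g3.1 v = v := by
  obtain ⟨h1, h2, h3⟩ := (Finset.mem_filter.1 h).2
  have hr : red v = v := by rw [red, h2, zero_smul, add_zero]
  exact ⟨hr ▸ red_mem v h1, hr, h3⟩

variable {G : Type*} [Group G] [Finite G] {z : G} {D : Dat z} {x : G} (T : Three D x)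

include T

theorem Three.base_comm (B : Base D) : x * B.s = B.s * x :=
  T.comm B.sQ (by rw [B.πs]; exact g3_pair.1)

/-- The element carried to the other involution has small commutator. -/
theorem Three.small_conj (B : Base D) :
    B.g⁻¹ * x * B.g ∈ centralizer ({z} : Set G) ∧
      ((Finset.univ : Finset M8).image (fun m => (hact D (B.g⁻¹ * x * B.g)).1 m + m)).card ≤ 4 := by
  classical
  set x' := B.g⁻¹ * x * B.g with hx'
  have hxz : x * z = z * x := mem_centralizer_singleton_iff.1 T.C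
  have hxs := T.base_comm B
  have hsx : x' * B.s = B.s * x' := by
    calc x' * B.s = B.g⁻¹ * (x * (B.g * B.s * B.g⁻¹)) * B.g := by rw [hx']; group
      _ = B.g⁻¹ * ((B.g * B.s * B.g⁻¹) * x) * B.g := by rw [B.gs, hxz]
      _ = B.s * x' := by rw [hx']; group
  have hx'C : x' ∈ centralizer ({z} : Set G) := mem_centralizer_singleton_iff.2 (by
    calc x' * z = B.g⁻¹ * (x * (B.g * z * B.g⁻¹)) * B.g := by rw [hx']; group
      _ = B.g⁻¹ * ((B.g * z * B.g⁻¹) * x) * B.g := by rw [B.gz, hxs]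
      _ = z * x' := by rw [hx']; group)
  refine ⟨hx'C, ?_⟩
  set h := hact D x' with hh
  have hx'3 : x' ^ 3 = 1 := by
    rw [hx', show B.g⁻¹ * x * B.g = B.g⁻¹ * x * B.g⁻¹⁻¹ by group, conj_pow, T.pow]; group
  have hh3 : ∀ m, h.1 (h.1 (h.1 m)) = m := fun m => by
    have e : h ^ 3 = 1 := by rw [hh, ← hact_pow' D hx'C, hx'3, hact_Q (one_mem _)]
    have := congrArg (fun t : O8 => t.1 m) e
    simpa [pow_succ] using this
  have hhe : h.1 e0 = e0 := by
    rw [hh, ← B.πs, ← (π_conj hx'C B.sQ).2, hsx, mul_inv_cancel_right]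
  -- fixed points from the conjugate extraspecial group
  have hsel : ∀ v : fixW, ∃ b ∈ B.P, red (B.wv b) = v.1 ∧ x * b = b * x := by
    intro ⟨v, hv⟩
    obtain ⟨hvw, hvr, hvg⟩ := mem_fixW hv
    obtain ⟨b, hb, hbw⟩ := B.wv_surj (adm_rep hvw).1
    refine ⟨b, hb, by rw [hbw]; exact (adm_rep hvw).2, ?_⟩
    have hcz : x * z * x⁻¹ = z := by rw [hxz, mul_inv_cancel_right]
    have hcs : x * B.s * x⁻¹ = B.s := by rw [hxs, mul_inv_cancel_right]
    obtain ⟨hb', hw⟩ := B.red_wv_conj hb hcz hcs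
    have hw' := hw T.C
    rw [← hact_eq T.C, T.eq, hbw, map_add, map_smul, hvg, g3_apply e0, g3_pair.1, ← hbw] at hw'
    set y := x * b * x⁻¹ * b⁻¹ with hy
    have hyP : y ∈ B.P := mul_mem hb' (inv_mem hb)
    have hy0 : B.wR y = 0 := by
      have e := B.wR_mul (B.P_R hyP) (B.P_N hb)
      rw [show y * b = x * b * x⁻¹ by rw [hy]; group, B.wR_P hb'.2, B.wR_P hb.2, hw'] at e
      exact right_eq_add.1 e
    have hV := B.inV_of_wR hyP hy0
    have hyx : x * y * x⁻¹ = y := by
      rcases B.inV_cases hV with e | e | e | e <;> rw [e]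
      · group
      · exact hcz
      · exact hcs
      · rw [show x * (z * B.s) * x⁻¹ = (x * z * x⁻¹) * (x * B.s * x⁻¹) by group, hcz, hcs]
    have hyy := B.inV_sq hV
    have e1 : x * b * x⁻¹ = y * b := by rw [hy]; group
    have e2 : x * (y * b) * x⁻¹ = b := by
      rw [show x * (y * b) * x⁻¹ = (x * y * x⁻¹) * (x * b * x⁻¹) by group, hyx, e1, ← mul_assoc, hyy, one_mul]
    have e3 : x * (x * (x * b * x⁻¹) * x⁻¹) * x⁻¹ = b := by
      rw [show x * (x * (x * b * x⁻¹) * x⁻¹) * x⁻¹ = (x * x * x) * b * (x * x * x)⁻¹ by group,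
        show x * x * x = x ^ 3 by rw [pow_succ, pow_two], T.pow]; group
    rw [e1, e2, e1] at e3
    rw [mul_eq_right.1 e3, one_mul] at e1
    calc x * b = x * b * x⁻¹ * x := by group
      _ = b * x := by rw [e1]
  choose sel hselP hselw hselc using hsel
  set av : fixW → G := fun v => B.g⁻¹ * sel v * B.g with hav
  have hA : ∀ v, av v ∈ B.A := fun v => B.mem_P_iff.1 (hselP v)
  have hcomm : ∀ v, x' * av v = av v * x' := fun v => by
    calc x' * av v = B.g⁻¹ * (x * sel v) * B.g := by rw [hx', hav]; group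
      _ = B.g⁻¹ * (sel v * x) * B.g := by rw [hselc v]
      _ = av v * x' := by rw [hx', hav]; group
  let F : fixW × ZMod 2 → M8 := fun p => D.π (av p.1) + p.2 • e0
  have hFfix : ∀ p, h.1 (F p) = F p := fun p => by
    have e1 : h.1 (D.π (av p.1)) = D.π (av p.1) := by
      rw [hh, ← (π_conj hx'C (hA p.1).1).2, hcomm, mul_inv_cancel_right]
    simp only [F, map_add, map_smul, e1, hhe]
  have hFperp : ∀ p, bf (F p) e0 = 0 := fun p => by
    simp only [F, Co1Invol.bf_add_left, Co1Invol.bf_smul_left, Co1Invol.bf_self, (B.mem_A.1 (hA p.1)).2,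
      mul_zero, add_zero]
  have hFinj : Function.Injective F := by
    rintro ⟨v, i⟩ ⟨w, j⟩ e
    have e' : D.π (av v) + D.π (av w) = (i + j) • e0 := by
      simp only [F] at e
      calc D.π (av v) + D.π (av w) = D.π (av v) + i • e0 + D.π (av w) + i • e0 := by
            rw [show D.π (av v) + i • e0 + D.π (av w) + i • e0 = D.π (av v) + D.π (av w) + (i • e0 + i • e0) by
              abel, Co1Invol.add_self, add_zero]
        _ = D.π (av w) + j • e0 + D.π (av w) + i • e0 := by rw [e]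
        _ = (i + j) • e0 := by
          rw [show D.π (av w) + j • e0 + D.π (av w) + i • e0 = (D.π (av w) + D.π (av w)) + (i • e0 + j • e0) by
            abel, Co1Invol.add_self, zero_add, add_smul]
    have hmem : av v * (av w)⁻¹ ∈ D.Q := mul_mem (hA v).1 (inv_mem (hA w).1)
    have hV : B.InV (av v * (av w)⁻¹) := by
      refine ⟨hmem, ?_⟩
      rw [D.π_mul _ (hA v).1 _ (inv_mem (hA w).1), π_inv D (hA w).1, e']
      rcases Co1Invol.zmod2_cases (i + j) with r | r <;> rw [r]
      · left; exact zero_smul _ _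
      · right; exact one_smul _ _
    have hV' : B.InV (sel v * (sel w)⁻¹) := by
      have e1 : sel v * (sel w)⁻¹ = B.g * (av v * (av w)⁻¹) * B.g⁻¹ := by rw [hav]; group
      rw [e1]
      rcases B.inV_cases hV with r | r | r | r <;> rw [r] <;> refine (B.inV_of ?_).1
      · left; group
      · right; right; left; exact B.gz
      · right; left; exact B.gs
      · right; right; right
        rw [show B.g * (z * B.s) * B.g⁻¹ = (B.g * z * B.g⁻¹) * (B.g * B.s * B.g⁻¹) by group, B.gz, B.gs]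
        exact (D.pre.gen.comm_z _ B.sQ).eq
    have hw0 : B.wR (sel v) = B.wR (sel w) := by
      have e1 := B.wR_mul (B.A_R (B.inV_A hV')) (B.P_N (hselP w))
      rwa [inv_mul_cancel_right, B.wR_Q hV'.1, zero_add] at e1
    have hvw : v = w := Subtype.ext (by
      rw [← hselw v, ← hselw w, ← B.wR_P (hselP v).2, ← B.wR_P (hselP w).2, hw0])
    subst hvw
    rw [Co1Invol.add_self] at e'
    have hij : i + j = 0 := by
      rcases Co1Invol.zmod2_cases (i + j) with r | r
      · exact r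
      · rw [r, one_smul] at e'; exact absurd e'.symm e0_ne
    have key : ∀ a b : ZMod 2, a + b = 0 → a = b := by decide
    rw [key i j hij]
  -- a fixed point off the hyperplane
  set m₁ := f0 + h.1 f0 + h.1 (h.1 f0) with hm₁
  have hm₁fix : h.1 m₁ = m₁ := by rw [hm₁, map_add, map_add, hh3]; abel
  have hm₁e : bf m₁ e0 = 1 := by
    rw [hm₁, Co1Invol.bf_add_left, Co1Invol.bf_add_left, bf_image_e0 hhe, bf_image_e0 hhe, bf_image_e0 hhe, b_fe]
    decide
  let F' : (fixW × ZMod 2) × ZMod 2 → M8 := fun p => F p.1 + p.2 • m₁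
  have hF'inj : Function.Injective F' := by
    rintro ⟨p, a⟩ ⟨q, b⟩ e
    simp only [F'] at e
    have e1 := congrArg (fun m => bf m e0) e
    simp only [Co1Invol.bf_add_left, Co1Invol.bf_smul_left, hFperp, hm₁e, zero_add, mul_one] at e1
    subst e1
    exact Prod.ext (hFinj (add_right_cancel e)) rfl
  set S := (Finset.univ : Finset M8).image (fun m => h.1 m + m) with hS
  have hsum : ∀ r ∈ S, r + h.1 r + h.1 (h.1 r) = 0 := by
    intro r hr
    obtain ⟨m, -, rfl⟩ := Finset.mem_image.1 hr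
    simp only [map_add, hh3]
    rw [show h.1 m + m + (h.1 (h.1 m) + h.1 m) + (m + h.1 (h.1 m)) =
      (h.1 m + m + h.1 (h.1 m)) + (h.1 m + m + h.1 (h.1 m)) by abel]
    exact Co1Invol.add_self _
  let Φ : S × ((fixW × ZMod 2) × ZMod 2) → M8 := fun p => p.1.1 + F' p.2
  have hΦ : Function.Injective Φ := by
    rintro ⟨⟨r, hr⟩, p⟩ ⟨⟨t, ht⟩, q⟩ e
    simp only [Φ] at e
    have hfix : ∀ p, h.1 (F' p) = F' p := fun p => by simp only [F', map_add, map_smul, hFfix, hm₁fix]
    have hu : h.1 (r + t) = r + t := by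
      have e1 := congrArg h.1 e
      rw [map_add h.1 r, map_add h.1 t, hfix, hfix] at e1
      have e2 : r + t = F' p + F' q := by
        calc r + t = (r + F' p) + t + F' p := by
              rw [show r + F' p + t + F' p = r + t + (F' p + F' p) by abel, Co1Invol.add_self, add_zero]
          _ = (t + F' q) + t + F' p := by rw [e]
          _ = F' p + F' q := by
            rw [show t + F' q + t + F' p = (t + t) + (F' p + F' q) by abel, Co1Invol.add_self, zero_add]
      rw [e2, map_add h.1 (F' p) (F' q), hfix, hfix]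
    have h0 : r + h.1 r + h.1 (h.1 r) + (t + h.1 t + h.1 (h.1 t)) = 0 := by
      rw [hsum r hr, hsum t ht, add_zero]
    have hrt : r = t := Co1Invol.eq_of_add_eq_zero (by
      rw [show r + h.1 r + h.1 (h.1 r) + (t + h.1 t + h.1 (h.1 t)) =
        (r + t) + h.1 (r + t) + h.1 (h.1 (r + t)) by simp only [map_add]; abel, hu, hu, Co1Invol.add_self,
        zero_add] at h0
      exact h0)
    subst hrt
    exact Prod.ext rfl (hF'inj (add_left_cancel e))
  have hc := Fintype.card_le_of_injective Φ hΦ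
  rw [Fintype.card_prod, Fintype.card_prod, Fintype.card_prod, Fintype.card_coe, Fintype.card_coe, card_fixW,
    ZMod.card, show Fintype.card M8 = 256 by simp] at hc
  omega

/-- A conjugate of the central involution inside the centraliser. -/
theorem Three.exists_move {g₀ : G} (h₀ : g₀ * z * g₀⁻¹ ∈ D.Q) (hne : g₀ * z * g₀⁻¹ ≠ z) :
    ∃ d : G, d * x = x * d ∧ d * z * d⁻¹ ∈ D.Q ∧ d * z * d⁻¹ ≠ z := by
  obtain ⟨B⟩ := exists_base D h₀ hne
  obtain ⟨hC', hsmall⟩ := T.small_conj B
  set x' := B.g⁻¹ * x * B.g with hx'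
  have hx'3 : x' ^ 3 = 1 := by
    rw [hx', show B.g⁻¹ * x * B.g = B.g⁻¹ * x * B.g⁻¹⁻¹ by group, conj_pow, T.pow]; group
  have hx'1 : x' ≠ 1 := fun e => T.ne_one (by
    calc x = B.g * x' * B.g⁻¹ := by rw [hx']; group
      _ = 1 := by rw [e]; group)
  obtain ⟨h, hh, T'⟩ := exists_three D hC' hx'3 hx'1 hsmall
  obtain ⟨⟨c, hc⟩, hca⟩ := D.act_surj h hh
  have hca' : hact D c = h := by rw [hact_eq hc]; exact hca
  have hconj : c * x' * c⁻¹ ∈ centralizer ({z} : Set G) := mul_mem (mul_mem hc hC') (inv_mem hc)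
  obtain ⟨q, hq, e⟩ := exists_conj_of_hact3 D hconj T.C (by rw [conj_pow, hx'3]; group) T.pow (by
    rw [hact_mul (mul_mem hc hC') (inv_mem hc), hact_mul hc hC', hact_inv hc, hca', ← hact_twist D h hC', T'.eq,
      T.eq]) (by rw [T.eq]; exact g3_ne)
  refine ⟨(q * c * B.g⁻¹)⁻¹, ?_, ?_⟩
  · have hd : q * c * B.g⁻¹ * x * (q * c * B.g⁻¹)⁻¹ = x := by
      conv_rhs => rw [← e, hx']
      group
    calc (q * c * B.g⁻¹)⁻¹ * x = (q * c * B.g⁻¹)⁻¹ * (q * c * B.g⁻¹ * x * (q * c * B.g⁻¹)⁻¹) := by rw [hd]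
      _ = x * (q * c * B.g⁻¹)⁻¹ := by group
  · have hqc : q * c ∈ centralizer ({z} : Set G) := mul_mem (mem_C D hq) hc
    have hz' : (q * c * B.g⁻¹)⁻¹ * z * (q * c * B.g⁻¹)⁻¹⁻¹ = B.s := by
      rw [show (q * c * B.g⁻¹)⁻¹ * z * (q * c * B.g⁻¹)⁻¹⁻¹ = B.g * ((q * c)⁻¹ * z * (q * c)⁻¹⁻¹) * B.g⁻¹ by group,
        z_conj (inv_mem hqc), B.gz]
    rw [hz']
    exact ⟨B.sQ, B.ne⟩

end CfsgLib.Co1Suz
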