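import Cfsg.Agent.Co1Suz.Block
import Cfsg.Agent.Co1Suz.Fusion
import Cfsg.Agent.Co1Suz.Layer
import Cfsg.Agent.Coset.Suz.Main
import Cfsg.Prelude.Def_CaseTheorems

/-!
The centraliser of the element of order three: the central quotient satisfies the hypotheses characterising the
Suzuki group, and the extension is quasisimple once the quotient is that group.
-/

set_option autoImplicit false
set_option maxRecDepth 100000
set_option synthInstance.maxSize 4096
set_option linter.style.haveILetI false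
set_option linter.unusedSectionVars false

namespace CfsgLib.Co1Suz

open CfsgLib CfsgLib.Quad CfsgLib.Co1Invol CfsgLib.Co1Five Subgroup

local notation "M6" => CfsgLib.SuzInvol.M6
local notation "O6" => CfsgLib.SuzInvol.O6
local notation "q6" => CfsgLib.SuzInvol.q6

universe u

theorem simple_omega6 : IsSimpleGroup ↥(commutator (oGroup q6)) := by
  have hn : 5 ≤ Module.finrank (ZMod 2) M6 := by simp
  haveI := isSimpleGroup_omega (Q := q6) SuzInvol.nondeg6 hn
  have hc : center ↥(commutator (oGroup q6)) = ⊥ := by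
    rw [eq_bot_iff]
    intro g hg
    obtain ⟨c, hc, hv⟩ := (center_iff SuzInvol.nondeg6 hn g).1 hg
    have hc1 : ∀ c : ZMod 2, c * c = 1 → c = 1 := by decide
    rw [hc1 c hc] at hv
    exact mem_bot.2 (Subtype.ext (Subtype.ext (LinearEquiv.ext fun v => by rw [hv v, one_smul]; rfl)))
  exact ((QuotientGroup.quotientMulEquivOfEq hc).trans QuotientGroup.quotientBot).symm.isSimpleGroup

/-- The fixed vectors. -/
def fixS : Finset M8 := Finset.univ.filter fun m => iotaFun (σ3, 1) m = m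

theorem fixS_facts : fixS.card = 64 ∧
    (∀ m ∈ fixS, (∀ n ∈ fixS, bf m n = 0) → m = 0) ∧ ∃ m ∈ fixS, m ≠ 0 := by decide +kernel

variable {G : Type u} [Group G] [Finite G] {z : G} {D : Dat z} {x : G} (T : Three D x)

include T

theorem Three.g3_pow_hact (i : ℕ) : hact D (x ^ i) = g3 ^ i := by rw [hact_pow' D T.C, T.eq]

theorem Three.zpowers_Q {t : G} (ht : t ∈ zpowers x) (hQ : t ∈ D.Q) : t = 1 := by
  by_contra hne
  obtain ⟨i, hi⟩ := mem_powers_iff_mem_zpowers.2 ht
  have h := hact_Q hQ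
  rw [← hi] at h hne
  rw [T.g3_pow_hact] at h
  have ho : orderOf g3 = 3 :=
    haveI : Fact (Nat.Prime 3) := ⟨Nat.prime_three⟩
    orderOf_eq_prime g3_pow g3_ne
  exact hne (orderOf_dvd_iff_pow_eq_one.1 (T.order.symm ▸ ho ▸ orderOf_dvd_of_pow_eq_one h))

theorem Three.z_comm_x : z * x = x * z := (mem_centralizer_singleton_iff.1 T.C).symm

/-- The hypotheses of the characterisation, for the central quotient. -/
theorem Three.setting (Cx : Subgroup G) (hCx : ∀ c, c ∈ Cx ↔ c * x = x * c) (X : Subgroup Cx) [X.Normal]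
    (hX : ∀ c : Cx, c ∈ X ↔ (c : G) ∈ zpowers x) {g₀ : G} (h₀ : g₀ * z * g₀⁻¹ ∈ D.Q)
    (hne : g₀ * z * g₀⁻¹ ≠ z) :
    ∃ (zY : Cx ⧸ X) (QY : Subgroup (centralizer ({zY} : Set (Cx ⧸ X)))) (_ : QY.Normal),
      orderOf zY = 2 ∧ Cfsg.generalizedFittingSubgroup (centralizer ({zY} : Set (Cx ⧸ X))) = QY ∧
      Cfsg.IsExtraspecial 2 QY ∧ Nat.card QY = 2 ^ 7 ∧
      Nonempty ((centralizer ({zY} : Set (Cx ⧸ X))) ⧸ QY ≃*
        Cfsg.Omega (ZMod 2) (Cfsg.quadFormMinus 2 (ZMod 2) 1 1)) ∧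
      ∃ g : Cx ⧸ X, (∃ hq : g * zY * g⁻¹ ∈ centralizer ({zY} : Set (Cx ⧸ X)),
        (⟨g * zY * g⁻¹, hq⟩ : centralizer ({zY} : Set (Cx ⧸ X))) ∈ QY) ∧ g * zY * g⁻¹ ≠ zY := by
  classical
  haveI : Fact (Nat.Prime 2) := ⟨Nat.prime_two⟩
  set zc : Cx := ⟨z, (hCx z).2 T.z_comm_x⟩ with hzc
  set zY : Cx ⧸ X := QuotientGroup.mk' X zc with hzY
  have hz2 : z * z = 1 := D.pre.gen.sq
  have hzYo : orderOf zY = 2 := by
    refine orderOf_eq_prime ?_ fun e => ?_
    · rw [hzY, ← map_pow, show zc ^ 2 = 1 from Subtype.ext (show z ^ 2 = 1 by rw [pow_two, hz2]), map_one]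
    · exact D.pre.gen.ne_one (T.zpowers_Q ((hX zc).1 ((QuotientGroup.eq_one_iff zc).1 e)) D.pre.gen.mem)
  set C1 := centralizer ({zY} : Set (Cx ⧸ X)) with hC1
  set K := centralizer ({zc} : Set Cx) with hK
  have hKz : ∀ c : K, ((c : Cx) : G) ∈ centralizer ({z} : Set G) := fun c =>
    mem_centralizer_singleton_iff.2 (congrArg Subtype.val (mem_centralizer_singleton_iff.1 c.2))
  have hmap : ∀ c : K, QuotientGroup.mk' X (c : Cx) ∈ C1 := fun c => mem_centralizer_singleton_iff.2 (by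
    rw [hzY, ← map_mul, ← map_mul, mem_centralizer_singleton_iff.1 c.2])
  let ψ : K →* C1 := ((QuotientGroup.mk' X).comp K.subtype).codRestrict C1 hmap
  -- lifting centralising elements
  have hX3 : ∀ t : Cx, t ∈ X → (t : G) ^ 3 = 1 := fun t ht => by
    obtain ⟨i, hi⟩ := mem_powers_iff_mem_zpowers.2 ((hX t).1 ht)
    rw [← hi, ← pow_mul, mul_comm, pow_mul, T.pow, one_pow]
  have hψs : Function.Surjective ψ := by
    rintro ⟨y, hy⟩
    obtain ⟨c, rfl⟩ := QuotientGroup.mk'_surjective X y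
    have e : QuotientGroup.mk' X (c * zc * c⁻¹) = QuotientGroup.mk' X zc := by
      rw [map_mul, map_mul, map_inv]
      exact mul_inv_eq_iff_eq_mul.2 (mem_centralizer_singleton_iff.1 hy)
    obtain ⟨t, ht, hte⟩ := (QuotientGroup.mk'_eq_mk' X).1 e
    have hte' : (c : G) * z * (c : G)⁻¹ * (t : G) = z := congrArg Subtype.val hte
    have ht' : (t : G) = ((c : G) * z * (c : G)⁻¹)⁻¹ * z := eq_inv_mul_of_mul_eq hte'
    have htc : z * (t : G) = (t : G) * z := by
      obtain ⟨i, hi⟩ := mem_powers_iff_mem_zpowers.2 ((hX t).1 ht)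
      rw [← hi]
      exact ((show Commute z x from T.z_comm_x).pow_right i).eq
    have ht2 : (t : G) * (t : G) = 1 := by
      have h1 : ((c : G) * z * (c : G)⁻¹) * ((c : G) * z * (c : G)⁻¹) = 1 := by
        rw [show (c : G) * z * (c : G)⁻¹ * ((c : G) * z * (c : G)⁻¹) = (c : G) * (z * z) * (c : G)⁻¹ by group, hz2]
        group
      have h2 : (c : G) * z * (c : G)⁻¹ = z * (t : G)⁻¹ := eq_mul_inv_of_mul_eq hte'
      have h3 : (t : G)⁻¹ * z = z * (t : G)⁻¹ := by
        rw [inv_mul_eq_iff_eq_mul, ← mul_assoc, eq_mul_inv_iff_mul_eq, htc]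
      rw [h2, show z * (t : G)⁻¹ * (z * (t : G)⁻¹) = z * ((t : G)⁻¹ * z) * (t : G)⁻¹ by group, h3,
        ← mul_assoc, hz2, one_mul, ← mul_inv_rev, inv_eq_one] at h1
      exact h1
    have ht1 : (t : G) = 1 := by
      have := hX3 t ht
      rwa [pow_succ, pow_two, ht2, one_mul] at this
    rw [ht1, mul_one, mul_inv_eq_iff_eq_mul] at hte'
    exact ⟨⟨c, mem_centralizer_singleton_iff.2 (Subtype.ext hte')⟩, rfl⟩
  -- the homomorphism into the six-dimensional group
  have hform : ∀ c : K, ∃ k : O6, ∃ i : ℕ, hact D ((c : Cx) : G) = g3 ^ i * ext6 k := fun c => by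
    have hcx : ((c : Cx) : G) * x = x * ((c : Cx) : G) := (hCx _).1 (c : Cx).2
    obtain ⟨i, k, h⟩ := cent_form (h := hact D ((c : Cx) : G))
      (by rw [← T.eq, ← hact_mul (hKz c) T.C, hcx, hact_mul T.C (hKz c)])
    exact ⟨k, i, h⟩
  choose kf ifn hkf using hform
  let f0 : K →* O6 := MonoidHom.mk' kf fun c d => by
    refine cent_form_unique (i := ifn (c * d)) (j := ifn c + ifn d) ?_
    rw [← hkf, show (((c * d : K) : Cx) : G) = ((c : Cx) : G) * ((d : Cx) : G) from rfl,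
      hact_mul (hKz c) (hKz d), hkf c, hkf d, pow_add, map_mul]
    have := ((show Commute (ext6 (kf c)) g3 from ext6_comm _).pow_right (ifn d)).eq
    simp only [mul_assoc]
    rw [← mul_assoc (ext6 (kf c)), this, mul_assoc]
  have hf0 : ∀ c : K, hact D ((c : Cx) : G) = g3 ^ ifn c * ext6 (f0 c) := hkf
  have hker0 : ψ.ker ≤ f0.ker := by
    intro c hc
    have hc' : (c : Cx) ∈ X := (QuotientGroup.eq_one_iff (c : Cx)).1 (congrArg Subtype.val (MonoidHom.mem_ker.1 hc))
    obtain ⟨i, hi⟩ := mem_powers_iff_mem_zpowers.2 ((hX _).1 hc')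
    refine MonoidHom.mem_ker.2 (cent_form_unique (i := ifn c) (j := i) ?_)
    rw [← hf0, map_one, mul_one, ← hi, T.g3_pow_hact]
  let f : C1 →* O6 := ψ.liftOfSurjective hψs ⟨f0, hker0⟩
  have hfψ : ∀ c : K, f (ψ c) = f0 c := fun c =>
    ψ.liftOfRightInverse_comp_apply (Function.surjInv hψs) (Function.rightInverse_surjInv hψs) ⟨f0, hker0⟩ c
  have hrange : f.range = commutator (oGroup q6) := by
    ext k
    constructor
    · rintro ⟨y, rfl⟩
      obtain ⟨c, rfl⟩ := hψs y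
      rw [hfψ, ← ext6_mem_iff]
      have h := hact_mem (D := D) ((c : Cx) : G)
      rw [hf0] at h
      exact (mul_mem_cancel_left (pow_mem g3_mem _)).1 h
    · intro hk
      obtain ⟨c, hc, hcx, hca⟩ := T.lift ((ext6_mem_iff k).2 hk) (ext6_comm k)
      let cK : K := ⟨⟨c, (hCx c).2 hcx⟩,
        mem_centralizer_singleton_iff.2 (Subtype.ext (mem_centralizer_singleton_iff.1 hc))⟩
      refine ⟨ψ cK, ?_⟩
      rw [hfψ]
      refine cent_form_unique (i := ifn cK) (j := 0) ?_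
      rw [← hf0, pow_zero, one_mul]
      exact hca
  -- the extraspecial kernel
  set R : Subgroup G := D.Q ⊓ centralizer ({x} : Set G) with hR
  obtain ⟨h64, hnd, hne0⟩ := fixS_facts
  obtain ⟨hRe, hRc⟩ := extraspecial_of_image D R inf_le_left
    ⟨D.pre.gen.mem, mem_centralizer_singleton_iff.2 T.z_comm_x⟩ fixS (fun m => by
      simp only [fixS, Finset.mem_filter, Finset.mem_univ, true_and]
      refine ⟨fun h => ?_, ?_⟩
      · obtain ⟨q, hq, rfl⟩ := D.π_surj m
        exact ⟨q, ⟨hq, mem_centralizer_singleton_iff.2 (T.comm hq h).symm⟩, rfl⟩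
      · rintro ⟨r, hr, rfl⟩
        exact T.fix hr.1 (mem_centralizer_singleton_iff.1 hr.2).symm) hnd hne0
  have hRK : ∀ r : R, ∃ rK : K, ((rK : Cx) : G) = r := fun r =>
    ⟨⟨⟨r, (hCx r).2 (mem_centralizer_singleton_iff.1 r.2.2)⟩, mem_centralizer_singleton_iff.2
      (Subtype.ext (mem_centralizer_singleton_iff.1 (mem_C D r.2.1)))⟩, rfl⟩
  choose rK hrK using hRK
  let η0 : R →* K := MonoidHom.mk' rK fun a b => Subtype.ext (Subtype.ext (by
    rw [show (((rK a * rK b : K) : Cx) : G) = ((rK a : Cx) : G) * ((rK b : Cx) : G) from rfl, hrK, hrK, hrK]; rfl))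
  let η : R →* C1 := ψ.comp η0
  have hη : ∀ r, η r ∈ f.ker := fun r => by
    rw [MonoidHom.mem_ker]
    show f (ψ (rK r)) = 1
    rw [hfψ]
    refine cent_form_unique (i := ifn (rK r)) (j := 0) ?_
    rw [← hf0, hrK, hact_Q r.2.1, map_one, pow_zero, one_mul]
  let ηQ : R →* f.ker := η.codRestrict f.ker hη
  have hψQ : ∀ c : K, ψ c = 1 → ((c : Cx) : G) ∈ D.Q → ((c : Cx) : G) = 1 := fun c hc hQ =>
    T.zpowers_Q ((hX _).1 ((QuotientGroup.eq_one_iff (c : Cx)).1 (congrArg Subtype.val hc))) hQ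
  have hηi : Function.Injective ηQ := (injective_iff_map_eq_one _).2 fun r hr => Subtype.ext (by
    rw [← hrK]
    exact hψQ (rK r) (congrArg Subtype.val hr) (by rw [hrK]; exact r.2.1))
  have hηs : Function.Surjective ηQ := by
    rintro ⟨y, hy⟩
    obtain ⟨c, rfl⟩ := hψs y
    rw [MonoidHom.mem_ker, hfψ] at hy
    have hxi : x ^ ifn c ∈ centralizer ({z} : Set G) := pow_mem T.C _
    set r : G := ((c : Cx) : G) * (x ^ ifn c)⁻¹ with hr
    have hrQ : r ∈ D.Q := mem_Q_of_hact (mul_mem (hKz c) (inv_mem hxi)) (by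
      rw [hr, hact_mul (hKz c) (inv_mem hxi), hact_inv hxi, hf0, hy, map_one, mul_one, T.g3_pow_hact, mul_inv_cancel])
    have hrx : r * x = x * r :=
      (((show Commute ((c : Cx) : G) x from (hCx _).1 (c : Cx).2)).mul_left
        ((Commute.refl x).pow_left _).inv_left).eq
    refine ⟨⟨r, hrQ, mem_centralizer_singleton_iff.2 hrx⟩, Subtype.ext (Subtype.ext ?_)⟩
    show QuotientGroup.mk' X (rK _ : Cx) = QuotientGroup.mk' X (c : Cx)
    refine (QuotientGroup.mk'_eq_mk' X).2 ⟨⟨x ^ ifn c, (hCx _).2 ((Commute.refl x).pow_left _).eq⟩,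
      (hX _).2 (pow_mem (mem_zpowers x) _), Subtype.ext ?_⟩
    show ((rK _ : Cx) : G) * x ^ ifn c = ((c : Cx) : G)
    rw [hrK]
    exact inv_mul_cancel_right _ _
  let eQ : R ≃* f.ker := MulEquiv.ofBijective ηQ ⟨hηi, hηs⟩
  have hQe : Cfsg.IsExtraspecial 2 f.ker := LargeExtra.isExtraspecial_equiv eQ hRe
  have hQc : Nat.card f.ker = 2 ^ 7 := by rw [← Nat.card_congr eQ.toEquiv, hRc, h64]; norm_num
  let eq6 : C1 ⧸ f.ker ≃* ↥(commutator (oGroup q6)) :=
    (QuotientGroup.quotientKerEquivRange f).trans (MulEquiv.subgroupCongr hrange)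
  -- self-centralising
  have hself : centralizer (f.ker : Set C1) ≤ f.ker := by
    intro y hy
    obtain ⟨c, rfl⟩ := hψs y
    rw [MonoidHom.mem_ker, hfψ]
    refine Subtype.ext (LinearEquiv.ext fun l => ?_)
    show (f0 c).1 l = l
    obtain ⟨q, hq, hqπ⟩ := D.π_surj (emb l)
    have hqx : x * q = q * x := T.comm hq (by rw [hqπ, g3_emb])
    set r : R := ⟨q, hq, mem_centralizer_singleton_iff.2 hqx.symm⟩
    have hcomm := mem_centralizer_iff.1 hy (η r) (hη r)
    have hK1 : ψ (c * rK r * c⁻¹ * (rK r)⁻¹) = 1 := by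
      rw [map_mul, map_mul, map_mul, map_inv, map_inv]
      show ψ c * η r * (ψ c)⁻¹ * (η r)⁻¹ = 1
      rw [← hcomm]; group
    have hQmem : ((c : Cx) : G) * q * ((c : Cx) : G)⁻¹ * q⁻¹ ∈ D.Q := (π_commutator (hKz c) hq).1
    have h1 := hψQ _ hK1 (by
      show ((c : Cx) : G) * ((rK r : Cx) : G) * ((c : Cx) : G)⁻¹ * ((rK r : Cx) : G)⁻¹ ∈ D.Q
      rw [hrK]; exact hQmem)
    change ((c : Cx) : G) * ((rK r : Cx) : G) * ((c : Cx) : G)⁻¹ * ((rK r : Cx) : G)⁻¹ = 1 at h1
    rw [hrK] at h1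
    have h2 := (π_commutator (D := D) (hKz c) hq).2
    rw [h1, π_one, hqπ, hf0] at h2
    have h3 := (Co1Invol.eq_of_add_eq_zero h2.symm)
    change (g3 ^ ifn c).1 ((ext6 (f0 c)).1 (emb l)) = emb l at h3
    rw [ext6_emb] at h3
    have hfix : ∀ (i : ℕ) (a : M6), (g3 ^ i).1 (emb a) = emb a := fun i a => by
      induction i with
      | zero => rfl
      | succ n ih =>
        rw [pow_succ]
        show (g3 ^ n).1 (g3.1 (emb a)) = _
        rw [g3_emb, ih]
    rw [hfix] at h3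
    have := congrArg prj h3
    rwa [prj_emb, prj_emb] at this
  haveI hsimple : IsSimpleGroup (C1 ⧸ f.ker) := by
    haveI := simple_omega6
    exact eq6.isSimpleGroup
  have hnsol : ¬ Group.IsSolvable (C1 ⧸ f.ker) := by
    have hc : Nat.card (C1 ⧸ f.ker) = 25920 := by rw [Nat.card_congr eq6.toEquiv, SuzInvol.card_omega6]
    exact Monster.not_solvable_of_simple Nat.prime_two Nat.prime_three (by norm_num) (by rw [hc]; norm_num)
      (by rw [hc]; norm_num)
  have hF := Monster.Fstar_eq_of_simple_quotient f.ker hQe.1.1 hnsol hself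
  obtain ⟨d, hdx, hdQ, hdz⟩ := T.exists_move h₀ hne
  have hzx : d * z * d⁻¹ * x = x * (d * z * d⁻¹) :=
    (((show Commute d x from hdx).mul_left T.z_comm_x).mul_left (show Commute d x from hdx).inv_left).eq
  refine ⟨zY, f.ker, inferInstance, hzYo, hF, hQe, hQc, ⟨eq6.trans (?_ : ↥(commutator (oGroup q6)) ≃* _)⟩,
    QuotientGroup.mk' X ⟨d, (hCx d).2 hdx⟩, ?_, fun e => hdz ?_⟩
  · rw [← minusQ_coe]; exact (omegaEquiv _).symm
  · set r : R := ⟨d * z * d⁻¹, hdQ, mem_centralizer_singleton_iff.2 hzx⟩ with hr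
    have hval : ((η r : C1) : Cx ⧸ X) =
        QuotientGroup.mk' X ⟨d, (hCx d).2 hdx⟩ * zY * (QuotientGroup.mk' X ⟨d, (hCx d).2 hdx⟩)⁻¹ := by
      rw [hzY, ← map_inv, ← map_mul, ← map_mul]
      show QuotientGroup.mk' X (rK r : Cx) = _
      congr 1
      exact Subtype.ext (hrK r)
    refine ⟨hval ▸ (η r).2, ?_⟩
    convert hη r using 1
    exact Subtype.ext hval.symm
  · rw [hzY, ← map_inv, ← map_mul, ← map_mul] at e
    obtain ⟨t, ht, hte⟩ := (QuotientGroup.mk'_eq_mk' X).1 e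
    have hte' : d * z * d⁻¹ * (t : G) = z := congrArg Subtype.val hte
    have htQ : (t : G) ∈ D.Q := by
      rw [eq_inv_mul_of_mul_eq hte']; exact mul_mem (inv_mem hdQ) D.pre.gen.mem
    rwa [T.zpowers_Q ((hX t).1 ht) htQ, mul_one] at hte'

/-- Quasisimplicity. -/
theorem Three.quasisimple (Cx : Subgroup G) (hCx : ∀ c, c ∈ Cx ↔ c * x = x * c) (X : Subgroup Cx) [X.Normal]
    (hX : ∀ c : Cx, c ∈ X ↔ (c : G) ∈ zpowers x) {g₀ : G} (h₀ : g₀ * z * g₀⁻¹ ∈ D.Q)
    (hne : g₀ * z * g₀⁻¹ ≠ z) (hY : Cfsg.Spor.IsoSuz (Cx ⧸ X)) : Cfsg.IsQuasisimple Cx := by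
  classical
  obtain ⟨eY⟩ := hY
  haveI hS : IsSimpleGroup Cfsg.Spor.Suz := CfsgLib.Coset.Suz.isSuz.1
  haveI : IsSimpleGroup (Cx ⧸ X) := eY.isSimpleGroup
  have hYc : Nat.card (Cx ⧸ X) = 448345497600 := by rw [Nat.card_congr eY.toEquiv, CfsgLib.Coset.Suz.isSuz.2]
  haveI : Finite (Cx ⧸ X) := inferInstance
  have hns := Monster.not_solvable_of_simple (H := Cx ⧸ X) Nat.prime_two Nat.prime_three (by norm_num)
    (by rw [hYc]; norm_num) (by rw [hYc]; norm_num)
  have hperfY : commutator (Cx ⧸ X) = ⊤ := by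
    refine ((inferInstance : (commutator (Cx ⧸ X)).Normal).eq_bot_or_eq_top).resolve_left fun e => hns ?_
    exact (IsSimpleGroup.comm_iff_isSolvable).1 fun a b => by
      have := Subgroup.commutator_mem_commutator (mem_top a) (mem_top b)
      rwa [← _root_.commutator_def, e, mem_bot, commutatorElement_eq_one_iff_mul_comm] at this
  have hCeq : Cx = centralizer ({x} : Set G) := Subgroup.ext fun c => by
    rw [hCx, mem_centralizer_singleton_iff]
  have hx0 := T.mem_commutator h₀ hne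
  subst hCeq
  have hXle : X ≤ commutator ↥(centralizer ({x} : Set G)) := fun c hc => by
    obtain ⟨i, hi⟩ := mem_zpowers_iff.1 ((hX c).1 hc)
    rw [show c = (⟨x, mem_centralizer_singleton_iff.2 rfl⟩ : ↥(centralizer ({x} : Set G))) ^ i from
      Subtype.ext hi.symm]
    exact zpow_mem hx0 i
  have hperf : commutator ↥(centralizer ({x} : Set G)) = ⊤ := by
    have h : (commutator ↥(centralizer ({x} : Set G))).map (QuotientGroup.mk' X) = ⊤ := by
      rw [_root_.commutator_def, map_commutator, map_top_of_surjective _ (QuotientGroup.mk'_surjective X),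
        ← _root_.commutator_def, hperfY]
    rw [eq_top_iff]
    intro c _
    obtain ⟨d, hd, e⟩ := (h.symm ▸ mem_top (QuotientGroup.mk' X c) :
      QuotientGroup.mk' X c ∈ (commutator ↥(centralizer ({x} : Set G))).map (QuotientGroup.mk' X))
    obtain ⟨t, ht, rfl⟩ := (QuotientGroup.mk'_eq_mk' X).1 e
    exact mul_mem hd (hXle ht)
  have hcen : center ↥(centralizer ({x} : Set G)) = X := by
    refine le_antisymm (fun c hc => ?_) fun c hc => mem_center_iff.2 fun d => Subtype.ext ?_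
    · have hcY : center (↥(centralizer ({x} : Set G)) ⧸ X) = ⊥ :=
        ((inferInstance : (center (↥(centralizer ({x} : Set G)) ⧸ X)).Normal).eq_bot_or_eq_top).resolve_right
          fun e => hns ((IsSimpleGroup.comm_iff_isSolvable).1 fun a b => (mem_center_iff.1 (e ▸ mem_top b) a))
      refine (QuotientGroup.eq_one_iff c).1 (mem_bot.1 (hcY ▸ mem_center_iff.2 fun y => ?_))
      obtain ⟨d, rfl⟩ := QuotientGroup.mk'_surjective X y
      exact congrArg (QuotientGroup.mk' X) (mem_center_iff.1 hc d)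
    · obtain ⟨i, hi⟩ := mem_zpowers_iff.1 ((hX c).1 hc)
      show (d : G) * (c : G) = (c : G) * (d : G)
      rw [← hi]
      exact ((show Commute (d : G) x from mem_centralizer_singleton_iff.1 d.2).zpow_right i).eq
  exact ⟨Group.isPerfect_def.2 hperf,
    ((QuotientGroup.quotientMulEquivOfEq hcen).isSimpleGroup)⟩

end CfsgLib.Co1Suz
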