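import Cfsg.Agent.Co1Five.Normal

/-!
An element of order three of the involution centraliser with a two-dimensional commutator on the extraspecial
group: normal form, conjugacy, lifting into its centraliser.
-/

set_option autoImplicit false
set_option maxRecDepth 100000
set_option synthInstance.maxSize 4096
set_option linter.style.haveILetI false
set_option linter.unusedSectionVars false

namespace CfsgLib.Co1Suz

open CfsgLib CfsgLib.Quad CfsgLib.Co1Invol CfsgLib.Co1Five Subgroup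
open CfsgLib.HJT (V5 Ev wt dot sing)

local notation "pa" => CfsgLib.HJT.act

/-- The three-cycle. -/
def σ3 : Equiv.Perm (Fin 5) := Equiv.swap 2 3 * Equiv.swap 3 4

/-- The image of the element. -/
def g3 : O8 := iota (σ3, 1)

/-- A vector of the commutator. -/
def u3 : M8 := enc ![0, 0, 1, 1, 0] 0

/-- Its image. -/
def v3 : M8 := enc (pa σ3 ![0, 0, 1, 1, 0]) 0

theorem σ3_sign : Equiv.Perm.sign σ3 = 1 := by decide +kernel

theorem σ3_pow : σ3 ^ 3 = 1 := by decide +kernel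

theorem σ3_ne : σ3 ≠ 1 := by decide +kernel

theorem g3_apply (m : M8) : g3.1 m = iotaFun (σ3, 1) m := rfl

theorem g3_mem : g3 ∈ commutator (oGroup q8) :=
  (iota_mem_iff σ3 1).2 (by rw [σ3_sign, map_one])

theorem g3_pow : g3 ^ 3 = 1 := by
  rw [g3, ← map_pow, Prod.pow_mk, σ3_pow, one_pow]; exact map_one iota

theorem g3_ne : g3 ≠ 1 := fun e =>
  σ3_ne (congrArg Prod.fst (iota_injective (e.trans (map_one iota).symm)))

theorem line_facts : qf u3 = 1 ∧ qf v3 = 1 ∧ bf u3 v3 = 1 ∧ iotaFun (σ3, 1) u3 = v3 ∧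
    iotaFun (σ3, 1) v3 = u3 + v3 := by decide +kernel

theorem fix_perp : ∀ m : M8, bf m u3 = 0 → bf m v3 = 0 → iotaFun (σ3, 1) m = m := by decide +kernel

theorem exists_w1 : ∀ a : M8, qf a = 1 → bf a u3 = 0 →
    a = u3 ∨ ∃ w : M8, qf w = 1 ∧ bf a w = 1 ∧ bf w u3 = 1 := by decide +kernel

theorem exists_w2 : ∀ b : M8, qf b = 1 → bf u3 b = 1 → bf b v3 = 0 →
    b = v3 ∨ ∃ w : M8, qf w = 1 ∧ bf u3 w = 1 ∧ bf b w = 1 ∧ bf w v3 = 1 := by decide +kernel

/-- The transvection at a non-singular vector. -/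
theorem refl_eq {d : M8} (hd : qf d = 1) (x : M8) : (refl q8 d).1 x = x + bf x d • d := by
  rw [refl_apply, q8_eq, hd, polar_eq]
  rw [inv_one, CharTwo.neg_eq, one_mul]

/-- A transvection exchanging two non-singular vectors. -/
theorem refl_exch {a b : M8} (ha : qf a = 1) (hb : qf b = 1) (hab : bf a b = 1) :
    qf (a + b) = 1 ∧ (refl q8 (a + b)).1 a = b := by
  have hq : qf (a + b) = 1 := by rw [Co1Invol.qf_add, ha, hb, hab]; decide
  refine ⟨hq, ?_⟩
  rw [refl_eq hq, Co1Invol.bf_add_right, Co1Invol.bf_self, hab, zero_add, one_smul, ← add_assoc,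
    Co1Invol.add_self, zero_add]

theorem exists_map_line {a b : M8} (ha : qf a = 1) (hb : qf b = 1) (hab : bf a b = 1) :
    ∃ h : O8, h.1 a = u3 ∧ h.1 b = v3 := by
  have step1 : ∃ h : O8, h.1 a = u3 := by
    rcases Co1Invol.zmod2_cases (bf a u3) with e | e
    · rcases exists_w1 a ha e with rfl | ⟨w, hw, haw, hwu⟩
      · exact ⟨1, rfl⟩
      · refine ⟨refl q8 (w + u3) * refl q8 (a + w), ?_⟩
        show (refl q8 (w + u3)).1 ((refl q8 (a + w)).1 a) = u3
        rw [(refl_exch ha hw haw).2, (refl_exch hw line_facts.1 hwu).2]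
    · exact ⟨_, (refl_exch ha line_facts.1 e).2⟩
  obtain ⟨h, hh⟩ := step1
  have hb' : qf (h.1 b) = 1 := by rw [qf_oGroup, hb]
  have hub : bf u3 (h.1 b) = 1 := by rw [← hh, bf_oGroup, hab]
  have huv := line_facts.2.2.1
  have fixu : ∀ {d : M8}, qf d = 1 → bf u3 d = 0 → (refl q8 d).1 u3 = u3 := fun hd h0 => by
    rw [refl_eq hd, h0, zero_smul, add_zero]
  have step2 : ∃ k : O8, k.1 u3 = u3 ∧ k.1 (h.1 b) = v3 := by
    rcases Co1Invol.zmod2_cases (bf (h.1 b) v3) with e | e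
    · rcases exists_w2 _ hb' hub e with e' | ⟨w, hw, huw, hbw, hwv⟩
      · exact ⟨1, rfl, e'⟩
      · obtain ⟨q1, r1⟩ := refl_exch hb' hw hbw
        obtain ⟨q2, r2⟩ := refl_exch hw line_facts.2.1 hwv
        refine ⟨refl q8 (w + v3) * refl q8 (h.1 b + w), ?_, ?_⟩
        · show (refl q8 (w + v3)).1 ((refl q8 (h.1 b + w)).1 u3) = u3
          rw [fixu q1 (by rw [Co1Invol.bf_add_right, hub, huw]; decide),
            fixu q2 (by rw [Co1Invol.bf_add_right, huv, huw]; decide)]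
        · show (refl q8 (w + v3)).1 ((refl q8 (h.1 b + w)).1 (h.1 b)) = v3
          rw [r1, r2]
    · obtain ⟨q1, r1⟩ := refl_exch hb' line_facts.2.1 e
      exact ⟨_, fixu q1 (by rw [Co1Invol.bf_add_right, hub, huv]; decide), r1⟩
  obtain ⟨k, hku, hkb⟩ := step2
  exact ⟨k * h, show k.1 (h.1 a) = u3 by rw [hh, hku], hkb⟩

theorem flip_comm : iota (1, Equiv.swap (0 : Fin 5) 1) * g3 = g3 * iota (1, Equiv.swap 0 1) := by
  rw [g3, ← map_mul, ← map_mul, Prod.mk_mul_mk, Prod.mk_mul_mk, one_mul, mul_one, one_mul, mul_one]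

/-- An isometry of order three with small commutator is conjugate to the model. -/
theorem exists_normal_form3 {g : O8} (h3 : g ^ 3 = 1) (hne : g ≠ 1)
    (hsmall : ((Finset.univ : Finset M8).image (fun m => g.1 m + m)).card ≤ 4) :
    ∃ h ∈ commutator (oGroup q8), h * g * h⁻¹ = g3 := by
  classical
  have hggg : ∀ m, g.1 (g.1 (g.1 m)) = m := fun m => by
    have h := congrArg (fun k : O8 => k.1 m) h3
    simpa [pow_succ] using h
  set S := (Finset.univ : Finset M8).image (fun m => g.1 m + m) with hS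
  have memS : ∀ m, g.1 m + m ∈ S := fun m => Finset.mem_image.2 ⟨m, Finset.mem_univ _, rfl⟩
  obtain ⟨m₀, hm₀⟩ : ∃ m, g.1 m ≠ m := by
    by_contra hc
    push Not at hc
    exact hne (Subtype.ext (LinearEquiv.ext hc))
  obtain ⟨u, hu⟩ : ∃ u, u = g.1 m₀ + m₀ := ⟨_, rfl⟩
  have hsum : u + g.1 u + g.1 (g.1 u) = 0 := by
    simp only [hu, map_add, hggg]
    have := Co1Invol.add_self (g.1 m₀ + m₀ + g.1 (g.1 m₀))
    rw [← this]; abel
  have hu0 : u ≠ 0 := fun e => hm₀ (Co1Invol.eq_of_add_eq_zero (hu ▸ e))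
  have hgu : g.1 u ≠ u := fun e => hu0 (by
    rw [e, e, Co1Invol.add_self, zero_add] at hsum; exact hsum)
  have hggu : g.1 (g.1 u) = u + g.1 u := (Co1Invol.eq_of_add_eq_zero hsum).symm
  have hgu0 : g.1 u ≠ 0 := fun e => hu0 (g.1.map_eq_zero_iff.1 e)
  have huS : u ∈ S := hu ▸ memS m₀
  have hguS : g.1 u ∈ S := by
    have := memS (g.1 m₀); rwa [← map_add, ← hu] at this
  have h3S : u + g.1 u ∈ S := by
    rw [← hggu]
    have := memS (g.1 (g.1 m₀)); rwa [← map_add, ← map_add, ← hu] at this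
  have h0S : (0 : M8) ∈ S := by
    have := memS 0; rwa [map_zero, add_zero] at this
  have hsub : ({0, u, g.1 u, u + g.1 u} : Finset M8) ⊆ S := by
    intro a ha
    simp only [Finset.mem_insert, Finset.mem_singleton] at ha
    rcases ha with rfl | rfl | rfl | rfl
    exacts [h0S, huS, hguS, h3S]
  have hne3 : u + g.1 u ≠ 0 := fun e => hgu (Co1Invol.eq_of_add_eq_zero e).symm
  have hc4 : ({0, u, g.1 u, u + g.1 u} : Finset M8).card = 4 := by
    rw [Finset.card_insert_of_notMem, Finset.card_insert_of_notMem, Finset.card_insert_of_notMem,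
      Finset.card_singleton] <;>
    simp only [Finset.mem_insert, Finset.mem_singleton, not_or]
    · exact fun e => hu0 (add_eq_right.1 e.symm)
    · exact ⟨Ne.symm hgu, fun e => hgu0 (left_eq_add.1 e)⟩
    · exact ⟨Ne.symm hu0, Ne.symm hgu0, Ne.symm hne3⟩
  have hSeq := Finset.eq_of_subset_of_card_le hsub (by rw [hc4]; exact hsmall)
  have hrange : ∀ m, g.1 m + m = 0 ∨ g.1 m + m = u ∨ g.1 m + m = g.1 u ∨ g.1 m + m = u + g.1 u := fun m => by
    have := hSeq.symm ▸ memS m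
    simpa [Finset.mem_insert] using this
  -- the decomposition
  have hdec : ∀ m, ∃ s r, m = s + r ∧ g.1 s = s ∧ (r = 0 ∨ r = u ∨ r = g.1 u ∨ r = u + g.1 u) := by
    intro m
    refine ⟨m + g.1 m + g.1 (g.1 m), g.1 (g.1 m) + g.1 m, ?_, ?_, hrange _⟩
    · rw [show m + g.1 m + g.1 (g.1 m) + (g.1 (g.1 m) + g.1 m) =
        m + ((g.1 (g.1 m) + g.1 m) + (g.1 (g.1 m) + g.1 m)) by abel, Co1Invol.add_self, add_zero]
    · rw [map_add, map_add, hggg]; abel
  have hperp : ∀ s, g.1 s = s → bf s u = 0 ∧ bf s (g.1 u) = 0 := by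
    intro s hs
    have h1 : bf s u = 0 := by
      rw [hu, Co1Invol.bf_add_right]
      conv_lhs => arg 1; rw [← hs, bf_oGroup]
      exact CharTwo.add_self_eq_zero _
    exact ⟨h1, by rw [← hs, bf_oGroup, h1]⟩
  have huv : bf u (g.1 u) = 1 := by
    refine (Co1Invol.zmod2_cases _).resolve_left fun e => hu0 (Co1Invol.eq_zero_of_bf fun m => ?_)
    obtain ⟨s, r, rfl, hs, hr⟩ := hdec m
    rw [Co1Invol.bf_add_right, Co1Invol.bf_comm u s, (hperp s hs).1, zero_add]
    rcases hr with rfl | rfl | rfl | rfl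
    · exact Co1Invol.bf_zero_right _
    · exact Co1Invol.bf_self _
    · exact e
    · rw [Co1Invol.bf_add_right, Co1Invol.bf_self, e, add_zero]
  have hq : qf u = 1 := by
    have h := Co1Invol.qf_add u (g.1 u)
    rw [← hggu, qf_oGroup, qf_oGroup, huv] at h
    revert h
    generalize qf u = t
    revert t
    decide
  obtain ⟨h, hhu, hhv⟩ := exists_map_line hq (by rw [qf_oGroup, hq]) huv
  have key : h * g * h⁻¹ = g3 := by
    rw [mul_inv_eq_iff_eq_mul]
    refine Subtype.ext (LinearEquiv.ext fun m => ?_)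
    show h.1 (g.1 m) = g3.1 (h.1 m)
    obtain ⟨s, r, rfl, hs, hr⟩ := hdec m
    rw [map_add g.1, map_add, map_add, map_add, hs]
    have hfix : g3.1 (h.1 s) = h.1 s := by
      rw [g3_apply]
      exact fix_perp _ (by rw [← hhu, bf_oGroup, (hperp s hs).1]) (by rw [← hhv, bf_oGroup, (hperp s hs).2])
    have e1 : g3.1 u3 = v3 := line_facts.2.2.2.1
    have e2 : g3.1 v3 = u3 + v3 := line_facts.2.2.2.2
    rw [hfix]
    congr 1
    rcases hr with rfl | rfl | rfl | rfl
    · simp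
    · rw [hhv, hhu, e1]
    · rw [hggu, map_add, hhu, hhv, e2]
    · simp only [map_add, hggu, hhu, hhv, e1, e2]
  by_cases hm : h ∈ commutator (oGroup q8)
  · exact ⟨h, hm, key⟩
  · refine ⟨iota (1, Equiv.swap 0 1) * h,
      (Co1Five.mul_mem_iff8 _ _).2 (iff_of_false (iota_swap_not_mem' 0 1 (by decide)) hm), ?_⟩
    calc iota (1, Equiv.swap 0 1) * h * g * (iota (1, Equiv.swap 0 1) * h)⁻¹
        = iota (1, Equiv.swap 0 1) * (h * g * h⁻¹) * (iota (1, Equiv.swap 0 1))⁻¹ := by group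
      _ = g3 := by rw [key, flip_comm, mul_inv_cancel_right]

variable {G : Type*} [Group G] [Finite G] {z : G}

/-- An element cubing to one fixing a point of the quotient centralises its preimage. -/
theorem comm_of_fix3 (D : Dat z) {x q : G} (hx : x ∈ centralizer ({z} : Set G)) (hx3 : x ^ 3 = 1) (hq : q ∈ D.Q)
    (h : (hact D x).1 (D.π q) = D.π q) : x * q = q * x := by
  have hxq := norm_Q D hx hq
  rcases eq_of_π D hq hxq (by rw [(π_conj hx hq).2, h]) with e | e
  · conv_rhs => rw [← e]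
    group
  · exfalso
    refine D.pre.gen.ne_one ?_
    have h2 : x * (x * q * x⁻¹) * x⁻¹ = q := by
      rw [e, show x * (q * z) * x⁻¹ = (x * q * x⁻¹) * (x * z * x⁻¹) by group, z_conj hx, e, mul_assoc,
        D.pre.gen.sq, mul_one]
    have h3 : x * (x * (x * q * x⁻¹) * x⁻¹) * x⁻¹ = q := by
      rw [show x * (x * (x * q * x⁻¹) * x⁻¹) * x⁻¹ = (x * x * x) * q * (x * x * x)⁻¹ by group,
        show x * x * x = x ^ 3 by rw [pow_succ, pow_two], hx3]; group
    rw [h2, e] at h3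
    exact mul_eq_left.1 h3

/-- Elements of third power one with the same image are conjugate under the extraspecial group. -/
theorem exists_conj_of_hact3 (D : Dat z) {b b' : G} (hb : b ∈ centralizer ({z} : Set G))
    (hb' : b' ∈ centralizer ({z} : Set G)) (h3 : b ^ 3 = 1) (h3' : b' ^ 3 = 1) (h : hact D b = hact D b')
    (hne : hact D b' ≠ 1) : ∃ q ∈ D.Q, q * b * q⁻¹ = b' := by
  classical
  haveI : Fact (Nat.Prime 3) := ⟨by norm_num⟩
  set Cz := centralizer ({z} : Set G) with hCz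
  set M : Subgroup Cz := (zpowers (D.act ⟨b', hb'⟩)).comap D.act with hM
  have hne' : D.act ⟨b', hb'⟩ ≠ 1 := by rwa [← hact_eq hb']
  have hbM : (⟨b, hb⟩ : Cz) ∈ M := by
    show D.act ⟨b, hb⟩ ∈ zpowers (D.act ⟨b', hb'⟩)
    rw [← hact_eq hb, h, hact_eq hb']; exact mem_zpowers _
  have hb'M : (⟨b', hb'⟩ : Cz) ∈ M := by
    show D.act _ ∈ zpowers (D.act ⟨b', hb'⟩)
    exact mem_zpowers _
  have hord : orderOf (D.act ⟨b', hb'⟩) = 3 := orderOf_eq_prime (by
    rw [← map_pow, show (⟨b', hb'⟩ : Cz) ^ 3 = 1 from Subtype.ext h3', map_one]) hne'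
  have hcard : Nat.card M = 1536 := by
    let f : M →* O8 := D.act.comp M.subtype
    have h1 := f.ker.card_mul_index
    rw [Subgroup.index_ker] at h1
    have hr : f.range = zpowers (D.act ⟨b', hb'⟩) := by
      ext x
      constructor
      · rintro ⟨c, rfl⟩; exact c.2
      · intro hx
        obtain ⟨n, rfl⟩ := mem_zpowers_iff.1 hx
        exact ⟨⟨⟨b', hb'⟩ ^ n, zpow_mem hb'M n⟩, map_zpow D.act _ n⟩
    have hk : Nat.card f.ker = Nat.card D.Q := by
      refine Nat.card_congr ⟨fun c => ⟨((c.1 : Cz) : G), (D.act_eq_one _).1 c.2⟩,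
        fun q => ⟨⟨⟨q, mem_C D q.2⟩, ?_⟩, (D.act_eq_one _).2 q.2⟩, fun c => rfl, fun q => rfl⟩
      show D.act ⟨q, mem_C D q.2⟩ ∈ zpowers (D.act ⟨b', hb'⟩)
      rw [(D.act_eq_one ⟨q, mem_C D q.2⟩).2 q.2]; exact one_mem _
    rw [hr, hk, D.card, Nat.card_zpowers, hord] at h1
    omega
  have hfac : (Nat.card M).factorization 3 = 1 := by
    rw [hcard, show 1536 = 3 ^ 1 * 512 by norm_num,
      Nat.factorization_mul (by norm_num) (by norm_num)]
    simp [Nat.prime_three.factorization, Nat.factorization_eq_zero_of_not_dvd]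
  have key : ∀ (x : G) (hx : x ∈ Cz) (hxM : (⟨x, hx⟩ : Cz) ∈ M), x ^ 3 = 1 → x ≠ 1 →
      ∃ P : Sylow 3 M, (P : Subgroup M) = zpowers ⟨⟨x, hx⟩, hxM⟩ := by
    intro x hx hxM hx5 hx1
    have hc : Nat.card (zpowers (⟨⟨x, hx⟩, hxM⟩ : M)) = 3 := ?_
    · exact ⟨Sylow.ofCard (zpowers (⟨⟨x, hx⟩, hxM⟩ : M)) (by rw [hfac, pow_one, hc]), rfl⟩
    rw [Nat.card_zpowers]
    exact orderOf_eq_prime (Subtype.ext (Subtype.ext hx5)) fun e => hx1 (congrArg (fun t : M => ((t : Cz) : G)) e)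
  obtain ⟨P, hP⟩ := key b hb hbM h3 fun e => hne (by rw [← h, e, hact_Q (one_mem _)])
  obtain ⟨P', hP'⟩ := key b' hb' hb'M h3' fun e => hne (by rw [e, hact_Q (one_mem _)])
  obtain ⟨m, hm⟩ := MulAction.exists_smul_eq M P P'
  have hmem : m * ⟨⟨b, hb⟩, hbM⟩ * m⁻¹ ∈ zpowers (⟨⟨b', hb'⟩, hb'M⟩ : M) := by
    rw [← hP', ← hm]
    refine mem_map.2 ⟨⟨⟨b, hb⟩, hbM⟩, hP ▸ mem_zpowers _, rfl⟩
  obtain ⟨k, hk⟩ := mem_zpowers_iff.1 hmem
  obtain ⟨j, hj⟩ := mem_zpowers_iff.1 (show D.act (m : Cz) ∈ zpowers (D.act ⟨b', hb'⟩) from m.2)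
  -- remove the image of `m`
  set q : Cz := (⟨b', hb'⟩ : Cz) ^ (-j) * (m : Cz) with hq
  have hqQ : (q : G) ∈ D.Q := (D.act_eq_one q).1 (by rw [hq, map_mul, map_zpow, ← hj, zpow_neg, inv_mul_cancel])
  have hconj : (q : Cz) * ⟨b, hb⟩ * q⁻¹ = ⟨b', hb'⟩ ^ k := by
    have hk' : (⟨b', hb'⟩ : Cz) ^ k = (m : Cz) * ⟨b, hb⟩ * (m : Cz)⁻¹ := congrArg (fun t : M => (t : Cz)) hk
    rw [hq, show (⟨b', hb'⟩ : Cz) ^ (-j) * (m : Cz) * ⟨b, hb⟩ * ((⟨b', hb'⟩ : Cz) ^ (-j) * (m : Cz))⁻¹ =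
      (⟨b', hb'⟩ : Cz) ^ (-j) * ((m : Cz) * ⟨b, hb⟩ * (m : Cz)⁻¹) * ((⟨b', hb'⟩ : Cz) ^ (-j))⁻¹ by group, ← hk']
    group
  refine ⟨q, hqQ, ?_⟩
  have hk1 : (D.act ⟨b', hb'⟩) ^ k = D.act ⟨b', hb'⟩ := by
    rw [← map_zpow, ← hconj, map_mul, map_mul, map_inv, (D.act_eq_one q).2 hqQ, one_mul, inv_one, mul_one,
      ← hact_eq hb, h, hact_eq hb']
  have hk2 : (⟨b', hb'⟩ : Cz) ^ k = ⟨b', hb'⟩ := by
    have hb'o : orderOf (⟨b', hb'⟩ : Cz) = 3 := orderOf_eq_prime (Subtype.ext h3') fun e =>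
      hne' (by rw [e, map_one])
    conv_rhs => rw [← zpow_one (⟨b', hb'⟩ : Cz)]
    conv at hk1 => rhs; rw [← zpow_one (D.act ⟨b', hb'⟩)]
    rw [zpow_eq_zpow_iff_modEq, hb'o]
    rwa [zpow_eq_zpow_iff_modEq, hord] at hk1
  have := congrArg Subtype.val (hconj.trans hk2)
  simpa using this

/-- The element of order three in normal form. -/
structure Three (D : Dat z) (x : G) : Prop where
  C : x ∈ centralizer ({z} : Set G)
  pow : x ^ 3 = 1
  eq : hact D x = g3

theorem hact_pow' (D : Dat z) {c : G} (hc : c ∈ centralizer ({z} : Set G)) (n : ℕ) :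
    hact D (c ^ n) = hact D c ^ n := by
  rw [hact_eq hc, ← map_pow, hact_eq (pow_mem hc n)]; rfl

/-- Two elements of order three with the same image are conjugate by an element of the group of the first. -/
theorem exists_three (D : Dat z) {x : G} (hx : x ∈ centralizer ({z} : Set G)) (h3 : x ^ 3 = 1) (hne : x ≠ 1)
    (hsmall : ((Finset.univ : Finset M8).image (fun m => (hact D x).1 m + m)).card ≤ 4) :
    ∃ h : O8, h ∈ commutator (oGroup q8) ∧ Three (twist D h) x := by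
  have hgne : hact D x ≠ 1 := fun e => hne (by
    have hxQ := mem_Q_of_hact hx e
    have h4 : x ^ 4 = 1 := by
      rcases D.pre.gen.square x hxQ with h | h
      · rw [show (4 : ℕ) = 2 * 2 from rfl, pow_mul, pow_two x, h, one_pow]
      · rw [show (4 : ℕ) = 2 * 2 from rfl, pow_mul, pow_two x, h, pow_two, D.pre.gen.sq]
    rwa [pow_succ, h3, one_mul] at h4)
  obtain ⟨h, hh, e⟩ := exists_normal_form3 (by rw [← hact_pow' D hx, h3, hact_Q (one_mem _)]) hgne hsmall
  exact ⟨h, hh, hx, h3, by rw [hact_twist D h hx, e]⟩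

namespace Three

variable {D : Dat z} {x : G} (T : Three D x)
include T

theorem ne_one : x ≠ 1 := fun e => g3_ne (by rw [← T.eq, e, hact_Q (one_mem _)])

theorem order : orderOf x = 3 :=
  haveI : Fact (Nat.Prime 3) := ⟨Nat.prime_three⟩
  orderOf_eq_prime T.pow T.ne_one

theorem notQ : x ∉ D.Q := fun h => g3_ne (by rw [← T.eq, hact_Q h])

/-- Elements of the centraliser of the image lift into the centraliser. -/
theorem lift {h : O8} (hh : h ∈ commutator (oGroup q8)) (hc : h * g3 = g3 * h) :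
    ∃ c ∈ centralizer ({z} : Set G), c * x = x * c ∧ hact D c = h := by
  obtain ⟨⟨n, hn⟩, hn'⟩ := D.act_surj h hh
  have hna : hact D n = h := by rw [hact_eq hn]; exact hn'
  have hn2 : n * x * n⁻¹ ∈ centralizer ({z} : Set G) := mul_mem (mul_mem hn T.C) (inv_mem hn)
  obtain ⟨q, hq, e⟩ := exists_conj_of_hact3 D hn2 T.C (by rw [conj_pow, T.pow]; group) T.pow
    (by rw [hact_mul (mul_mem hn T.C) (inv_mem hn), hact_mul hn T.C, hact_inv hn, hna, T.eq, hc,
      mul_inv_cancel_right])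
    (by rw [T.eq]; exact g3_ne)
  refine ⟨q * n, mul_mem (mem_C D hq) hn, ?_, by rw [hact_mul (mem_C D hq) hn, hact_Q hq, one_mul, hna]⟩
  calc q * n * x = q * (n * x * n⁻¹) * q⁻¹ * (q * n) := by group
    _ = x * (q * n) := by rw [e]

/-- A fixed point lifts into the centraliser. -/
theorem comm {q : G} (hq : q ∈ D.Q) (h : g3.1 (D.π q) = D.π q) : x * q = q * x :=
  comm_of_fix3 D T.C T.pow hq (by rw [T.eq, h])

theorem fix {q : G} (hq : q ∈ D.Q) (h : x * q = q * x) : g3.1 (D.π q) = D.π q := by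
  rw [← T.eq, ← (π_conj T.C hq).2, h, mul_inv_cancel_right]

/-- An element of order five in normal form commuting with the element of order three. -/
theorem exists_five : ∃ b, Five D b ∧ x * b = b * x := by
  obtain ⟨c, hc, hcx, hca⟩ := T.lift (h := iota (1, β)) iota_β_mem (by
    rw [g3, ← map_mul, ← map_mul, Prod.mk_mul_mk, Prod.mk_mul_mk, one_mul, mul_one, one_mul, mul_one])
  have h5 : hact D (c ^ 5) = 1 := by
    rw [hact_pow' D hc, hca, ← map_pow, Prod.pow_mk, one_pow, β_pow]; exact map_one iota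
  have hQ := mem_Q_of_hact (pow_mem hc 5) h5
  have h20 : c ^ 20 = 1 := by
    rw [show (20 : ℕ) = 5 * (2 * 2) from rfl, pow_mul, pow_mul]
    rcases D.pre.gen.square _ hQ with h | h
    · rw [pow_two (c ^ 5), h, one_pow]
    · rw [pow_two (c ^ 5), h, pow_two, D.pre.gen.sq]
  refine ⟨c ^ 16, ⟨pow_mem hc _, ?_, ?_⟩, ((show Commute x c from hcx.symm).pow_right 16).eq⟩
  · rw [← pow_mul, show 16 * 5 = 20 * 4 from rfl, pow_mul, h20, one_pow]
  · rw [hact_pow' D hc, hca, ← map_pow, Prod.pow_mk, one_pow, show (16 : ℕ) = 5 * 3 + 1 from rfl, pow_succ,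
      pow_mul, β_pow, one_pow, one_mul]

end Three

end CfsgLib.Co1Suz
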