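import Cfsg.Agent.Co1Suz.Three
import Cfsg.Agent.SuzInvol.Setting

/-!
The centraliser in the eight-dimensional orthogonal group of the model element of order three, through the
six-dimensional space of minus type of its fixed points.
-/

set_option autoImplicit false
set_option maxRecDepth 100000
set_option synthInstance.maxSize 4096
set_option linter.style.haveILetI false
set_option linter.unusedSectionVars false

namespace CfsgLib.Co1Suz

open CfsgLib CfsgLib.Quad CfsgLib.Co1Invol CfsgLib.Co1Five Subgroup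
open CfsgLib.HJT (V5 Ev wt dot sing)

local notation "pa" => CfsgLib.HJT.act
local notation "M6" => CfsgLib.SuzInvol.M6
local notation "O6" => CfsgLib.SuzInvol.O6
local notation "q6" => CfsgLib.SuzInvol.q6

/-- The first coordinates of a vector of the fixed space. -/
def emb1 (k : M6) : V5 := k (.inl (.inl 0)) • sing 0 + k (.inl (.inr 0)) • sing 1

/-- The second coordinates. -/
def emb2 (k : M6) : V5 :=
  k (.inl (.inl 1)) • sing 0 + k (.inl (.inr 1)) • sing 1 + k (.inr 0) • ![0, 0, 1, 1, 0] +
    k (.inr 1) • ![0, 0, 0, 1, 1]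

/-- The embedding onto the fixed points. -/
def emb (k : M6) : M8 := enc (emb1 k) (emb2 k)

/-- The coordinates of the component in the fixed space. -/
def prj (m : M8) : M6 :=
  Sum.elim (Sum.elim ![dec1 m 1, dec2 m 1] ![dec1 m 0, dec2 m 0])
    ![dec2 m 2 + dec2 m 0 + dec2 m 1, dec2 m 4 + dec2 m 0 + dec2 m 1]

/-- The component in the commutator. -/
def prW (m : M8) : M8 := m + emb (prj m)

theorem emb_add (k l : M6) : emb (k + l) = emb k + emb l := by
  rw [emb, emb, emb, ← enc_add]
  congr 1
  · simp only [emb1, Pi.add_apply, add_smul]; abel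
  · simp only [emb2, Pi.add_apply, add_smul]; abel

theorem prj_add (m n : M8) : prj (m + n) = prj m + prj n := by
  funext i
  rcases i with (i | i) | i <;> fin_cases i <;> simp [prj, dec1_add, dec2_add] <;> ring

theorem prW_add (m n : M8) : prW (m + n) = prW m + prW n := by
  simp only [prW, prj_add, emb_add]; abel

theorem emb_facts : ∀ k : M6, prj (emb k) = k ∧ qf (emb k) = SuzInvol.qf k ∧
    iotaFun (σ3, 1) (emb k) = emb k ∧ bf (emb k) u3 = 0 ∧ bf (emb k) v3 = 0 := by decide +kernel

theorem prW_facts : ∀ m : M8, (prW m = 0 ∨ prW m = u3 ∨ prW m = v3 ∨ prW m = u3 + v3) ∧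
    qf m = qf (prW m) + SuzInvol.qf (prj m) ∧ prW (iotaFun (σ3, 1) m) = iotaFun (σ3, 1) (prW m) ∧
    prj (iotaFun (σ3, 1) m) = prj m ∧ (iotaFun (σ3, 1) m = m → emb (prj m) = m) := by decide +kernel

theorem line_prj : prj u3 = 0 ∧ prj v3 = 0 ∧ prj (u3 + v3) = 0 ∧ u3 ≠ 0 ∧ prW u3 = u3 ∧ prW v3 = v3 := by
  decide +kernel

theorem prj_emb (k : M6) : prj (emb k) = k := (emb_facts k).1

theorem prW_emb (k : M6) : prW (emb k) = 0 := by rw [prW, prj_emb, Co1Invol.add_self]

theorem g3_emb (k : M6) : g3.1 (emb k) = emb k := (emb_facts k).2.2.1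

theorem decomp (m : M8) : m = prW m + emb (prj m) := by
  rw [prW, add_assoc, Co1Invol.add_self, add_zero]

theorem prj_prW (m : M8) : prj (prW m) = 0 := by
  rw [prW, prj_add, prj_emb]; exact CfsgLib.SuzInvol.add_self _

theorem prW_prW (m : M8) : prW (prW m) = prW m := by
  conv_rhs => rw [decomp m]
  rw [prW_add, prW_emb, add_zero]

/-- The extension, as a map. -/
def extFun (k : O6) (m : M8) : M8 := prW m + emb (k.1 (prj m))

theorem extFun_add (k : O6) (m n : M8) : extFun k (m + n) = extFun k m + extFun k n := by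
  simp only [extFun, prW_add, prj_add, map_add, emb_add]; abel

theorem prW_extFun (k : O6) (m : M8) : prW (extFun k m) = prW m := by
  rw [extFun, prW_add, prW_emb, add_zero, prW_prW]

theorem prj_extFun (k : O6) (m : M8) : prj (extFun k m) = k.1 (prj m) := by
  rw [extFun, prj_add, prj_prW, zero_add, prj_emb]

theorem extFun_mul (k l : O6) (m : M8) : extFun (k * l) m = extFun k (extFun l m) := by
  conv_rhs => rw [extFun, prW_extFun, prj_extFun]
  rfl

theorem extFun_one (m : M8) : extFun 1 m = m := (decomp m).symm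

theorem qf_extFun (k : O6) (m : M8) : qf (extFun k m) = qf m := by
  rw [(prW_facts (extFun k m)).2.1, (prW_facts m).2.1, prW_extFun, prj_extFun, SuzInvol.qf_oGroup]

/-- The extension, as an isometry. -/
def extIso (k : O6) : O8 :=
  ⟨{ toFun := extFun k
     map_add' := extFun_add k
     map_smul' := fun c m => ((AddMonoidHom.mk' (extFun k) (extFun_add k)).toZModLinearMap 2).map_smul c m
     invFun := extFun k⁻¹
     left_inv := fun m => by rw [← extFun_mul, inv_mul_cancel, extFun_one]
     right_inv := fun m => by rw [← extFun_mul, mul_inv_cancel, extFun_one] },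
    fun m => by rw [q8_eq, q8_eq]; exact qf_extFun k m⟩

/-- The isometries fixing the commutator pointwise. -/
def ext6 : O6 →* O8 :=
  MonoidHom.mk' extIso fun k l => Subtype.ext (LinearEquiv.ext fun m => extFun_mul k l m)

theorem ext6_apply (k : O6) (m : M8) : (ext6 k).1 m = prW m + emb (k.1 (prj m)) := rfl

theorem ext6_emb (k : O6) (l : M6) : (ext6 k).1 (emb l) = emb (k.1 l) := by
  rw [ext6_apply, prW_emb, prj_emb, zero_add]

theorem ext6_injective : Function.Injective ext6 := fun k l h => Subtype.ext (LinearEquiv.ext fun m => by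
  have := congrArg (fun t : O8 => prj (t.1 (emb m))) h
  simpa [ext6_emb, prj_emb] using this)

theorem ext6_comm (k : O6) : ext6 k * g3 = g3 * ext6 k := Subtype.ext (LinearEquiv.ext fun m => by
  show (ext6 k).1 (g3.1 m) = g3.1 ((ext6 k).1 m)
  rw [ext6_apply, ext6_apply, map_add, g3_emb, g3_apply, g3_apply, (prW_facts m).2.2.1, (prW_facts m).2.2.2.1])

/-- The isometries commuting with the model element. -/
theorem cent_form {h : O8} (hc : h * g3 = g3 * h) : ∃ i : ℕ, ∃ k : O6, h = g3 ^ i * ext6 k := by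
  have happ : ∀ m, h.1 (g3.1 m) = g3.1 (h.1 m) := fun m => congrArg (fun t : O8 => t.1 m) hc
  have e1 : g3.1 u3 = v3 := line_facts.2.2.2.1
  have e2 : g3.1 v3 = u3 + v3 := line_facts.2.2.2.2
  obtain ⟨lu, -, -, lu0, lW, -⟩ := line_prj
  have hu : u3 = g3.1 v3 + v3 := by rw [e2, add_assoc, Co1Invol.add_self, add_zero]
  have hp : prj (h.1 u3) = 0 := by
    rw [hu, map_add, happ, prj_add, g3_apply, (prW_facts _).2.2.2.1]
    exact CfsgLib.SuzInvol.add_self _
  have hw : prW (h.1 u3) = h.1 u3 := by
    conv_rhs => rw [decomp (h.1 u3), hp]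
    simp [emb, emb1, emb2, enc_zero]
  obtain ⟨i, hi⟩ : ∃ i : ℕ, h.1 u3 = (g3 ^ i).1 u3 := by
    rcases (prW_facts (h.1 u3)).1 with e | e | e | e <;> rw [hw] at e
    · exact absurd (h.1.map_eq_zero_iff.1 e) lu0
    · exact ⟨0, by rw [e, pow_zero]; rfl⟩
    · exact ⟨1, by rw [e, pow_one, e1]⟩
    · refine ⟨2, ?_⟩
      rw [e, pow_two]
      show u3 + v3 = g3.1 (g3.1 u3)
      rw [e1, e2]
  set h' := (g3 ^ i)⁻¹ * h with hh'
  have hc' : h' * g3 = g3 * h' :=
    ((((Commute.refl g3).pow_left i).inv_left).mul_left (show Commute h g3 from hc)).eq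
  have happ' : ∀ m, h'.1 (g3.1 m) = g3.1 (h'.1 m) := fun m => congrArg (fun t : O8 => t.1 m) hc'
  have hu' : h'.1 u3 = u3 := by
    show ((g3 ^ i)⁻¹).1 (h.1 u3) = u3
    rw [hi]; exact (g3 ^ i).1.symm_apply_apply u3
  have hv' : h'.1 v3 = v3 := by rw [← e1, happ', hu']
  have hW : ∀ m, h'.1 (prW m) = prW m := fun m => by
    rcases (prW_facts m).1 with e | e | e | e <;> rw [e] <;> simp [map_add, hu', hv']
  have hfix : ∀ l, emb (prj (h'.1 (emb l))) = h'.1 (emb l) := fun l =>
    (prW_facts _).2.2.2.2 (by rw [← g3_apply, ← happ', g3_emb])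
  set r : M6 → M6 := fun l => prj (h'.1 (emb l)) with hr
  have radd : ∀ a b, r (a + b) = r a + r b := fun a b => by rw [hr]; simp only [emb_add, map_add, prj_add]
  let rl : M6 →ₗ[ZMod 2] M6 := (AddMonoidHom.mk' r radd).toZModLinearMap 2
  have rinj : Function.Injective rl := fun a b e => by
    have e' : emb (r a) = emb (r b) := congrArg emb e
    rw [hr] at e'
    simp only [hfix] at e'
    have := congrArg prj (h'.1.injective e')
    rwa [prj_emb, prj_emb] at this
  let re : M6 ≃ₗ[ZMod 2] M6 := LinearEquiv.ofBijective rl ⟨rinj, Finite.injective_iff_surjective.1 rinj⟩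
  have hre : re ∈ oGroup q6 := fun l => by
    rw [SuzInvol.q6_eq, SuzInvol.q6_eq]
    show SuzInvol.qf (r l) = SuzInvol.qf l
    rw [← (emb_facts (r l)).2.1, hr]
    simp only [hfix, Co1Invol.qf_oGroup, (emb_facts l).2.1]
  refine ⟨i, ⟨re, hre⟩, ?_⟩
  · have : h' = ext6 ⟨re, hre⟩ := Subtype.ext (LinearEquiv.ext fun m => by
      rw [ext6_apply]
      conv_lhs => rw [decomp m]
      show h'.1 (prW m + emb (prj m)) = prW m + emb (r (prj m))
      rw [map_add, hW, hr]
      simp only [hfix])
    rw [← this, hh', mul_inv_cancel_left]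

theorem g3_fix {m : M8} (h : g3.1 m = m) : emb (prj m) = m := (prW_facts m).2.2.2.2 h

theorem cent_form_unique {i j : ℕ} {k l : O6} (h : g3 ^ i * ext6 k = g3 ^ j * ext6 l) : k = l := by
  have hfix : ∀ (i : ℕ) (a : M6), (g3 ^ i).1 (emb a) = emb a := fun i a => by
    induction i with
    | zero => rfl
    | succ n ih =>
      show ((g3 ^ (n + 1)).1) (emb a) = _
      rw [pow_succ]
      show (g3 ^ n).1 (g3.1 (emb a)) = _
      rw [g3_emb, ih]
  refine Subtype.ext (LinearEquiv.ext fun a => ?_)
  have := congrArg (fun t : O8 => t.1 (emb a)) h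
  change (g3 ^ i).1 ((ext6 k).1 (emb a)) = (g3 ^ j).1 ((ext6 l).1 (emb a)) at this
  rw [ext6_emb, ext6_emb, hfix, hfix] at this
  have := congrArg prj this
  rwa [prj_emb, prj_emb] at this

/-- The extension preserves and detects the commutator subgroup. -/
theorem ext6_mem_iff (k : O6) : ext6 k ∈ commutator (oGroup q8) ↔ k ∈ commutator (oGroup q6) := by
  set K : Subgroup O6 := (commutator (oGroup q8)).comap ext6 with hK
  have hle : commutator (oGroup q6) ≤ K := by
    rw [hK, ← map_le_iff_le_comap, _root_.commutator_def, map_commutator]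
    exact commutator_mono le_top le_top
  have hne : K ≠ ⊤ := by
    intro e
    have hs : iota (1, Equiv.swap (0 : Fin 5) 1) * g3 = g3 * iota (1, Equiv.swap 0 1) := flip_comm
    obtain ⟨i, l, hl⟩ := cent_form hs
    refine iota_swap_not_mem' 0 1 (by decide) (hl ▸ mul_mem (pow_mem g3_mem i) ?_)
    exact (e ▸ mem_top l : l ∈ K)
  have h2 := index_commutator_char_two (Q := q6) SuzInvol.nondeg6 (by simp) SuzInvol.hgen6
  have h := relIndex_mul_index hle
  rw [h2] at h
  have hK2 : K.index = 2 := by
    have hd : K.index ∣ 2 := Dvd.intro_left _ h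
    rcases (Nat.dvd_prime Nat.prime_two).1 hd with e | e
    · exact absurd (index_eq_one.1 e) hne
    · exact e
  rw [hK2] at h
  have h1 : (commutator (oGroup q6)).relIndex K = 1 := by omega
  exact ⟨fun hk => relIndex_eq_one.1 h1 hk, fun hk => hle hk⟩

end CfsgLib.Co1Suz
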