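import Cfsg.Agent.Co1Suz.Main
import Cfsg.Prelude.Def_Spor_Suz

/-!
The statement on the centraliser of the element of order three, from the characterisation of the Suzuki group.
-/

set_option autoImplicit false
set_option maxRecDepth 100000
set_option linter.style.haveILetI false
set_option linter.unusedVariables false

namespace CfsgLib.Co1Suz

open CfsgLib CfsgLib.Co1Invol CfsgLib.Co1Five Subgroup

universe u

theorem result_of_suz
    (hSuz : ∀ {G : Type u} [Group G] [Finite G] (z : G) (hz : orderOf z = 2) (Q : Subgroup (Subgroup.centralizer ({z} : Set G))) [Q.Normal] (hF : Cfsg.generalizedFittingSubgroup (Subgroup.centralizer ({z} : Set G)) = Q) (hQ : Cfsg.IsExtraspecial 2 Q) (hcard : Nat.card Q = 2 ^ 7) (e : (Subgroup.centralizer ({z} : Set G)) ⧸ Q ≃* Cfsg.Omega (ZMod 2) (Cfsg.quadFormMinus 2 (ZMod 2) 1 1)) (hnwc : ∃ g : G, (∃ hq : g * z * g⁻¹ ∈ Subgroup.centralizer ({z} : Set G), (⟨g * z * g⁻¹, hq⟩ : Subgroup.centralizer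 ({z} : Set G)) ∈ Q) ∧ g * z * g⁻¹ ≠ z), Cfsg.Spor.IsoSuz G)
    {G : Type u} [Group G] [Finite G] (z : G) (hz : orderOf z = 2) (Q : Subgroup (Subgroup.centralizer ({z} : Set G))) [Q.Normal] (hF : Cfsg.generalizedFittingSubgroup (Subgroup.centralizer ({z} : Set G)) = Q) (hQ : Cfsg.IsExtraspecial 2 Q) (hcard : Nat.card Q = 2 ^ 9) (e : (Subgroup.centralizer ({z} : Set G)) ⧸ Q ≃* Cfsg.Omega (ZMod 2) (Cfsg.quadFormPlus 4 (ZMod 2))) (hnwc : ∃ g : G, (∃ hq : g * z * g⁻¹ ∈ Subgroup.centralizer ({z} : Set G), (⟨g * z * g⁻¹, hq⟩ : Subgroup.centralizer ({z} : Set G)) ∈ Q) ∧ g * z * g⁻¹ ≠ z) (X : Subgroup (Subgroup.centralizer ({z} : Set G))) (hX : Nat.card X = 3) (hQX : Nat.card ↥⁅Q, X⁆ = 8) (hQXna : ¬ IsMulCommutative ↥⁅Q, X⁆) (Y₉ : Subgroup (Subgroup.centralizer ({z} : Set G))) (hXY : X ≤ Y₉) (hY₉ : Nat.card Y₉ = 9) (hY₉e : ∀ y ∈ Y₉, y ^ 3 = 1) (hCQ₉ : Cfsg.IsExtraspecial 2 ↥(Q ⊓ Subgroup.centralizer (Y₉ : Set (Subgroup.centralizer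 ({z} : Set G))))) (hCQ₉c : Nat.card ↥(Q ⊓ Subgroup.centralizer (Y₉ : Set (Subgroup.centralizer ({z} : Set G)))) = 32) (hCQ₉p : ∃ A : Subgroup (Subgroup.centralizer ({z} : Set G)), A ≤ Q ⊓ Subgroup.centralizer (Y₉ : Set (Subgroup.centralizer ({z} : Set G))) ∧ Cfsg.IsElementaryAbelian 2 A ∧ Nat.card A = 8) [((X.map (Subgroup.subtype (Subgroup.centralizer ({z} : Set G)))).subgroupOf (Subgroup.centralizer ((X.map (Subgroup.subtype (Subgroup.centralizer ({z} : Set G)))) : Set G))).Normal] :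
    Cfsg.IsQuasisimple ↥(Subgroup.centralizer ((X.map (Subgroup.subtype (Subgroup.centralizer ({z} : Set G)))) : Set G)) ∧ Cfsg.Spor.IsoSuz (↥(Subgroup.centralizer ((X.map (Subgroup.subtype (Subgroup.centralizer ({z} : Set G)))) : Set G)) ⧸ (X.map (Subgroup.subtype (Subgroup.centralizer ({z} : Set G)))).subgroupOf (Subgroup.centralizer ((X.map (Subgroup.subtype (Subgroup.centralizer ({z} : Set G)))) : Set G))) := by
  classical
  obtain ⟨D, hDQ⟩ := CfsgLib.Co1Invol.exists_dat hz Q hF hQ hcard e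
  haveI : Fact (Nat.Prime 3) := ⟨Nat.prime_three⟩
  obtain ⟨⟨xC, hxX⟩, hxo⟩ := exists_prime_orderOf_dvd_card' (G := X) 3 (dvd_of_eq hX.symm)
  rw [← Subgroup.orderOf_coe] at hxo
  simp only at hxo
  have hgen : X = zpowers xC := (eq_of_le_of_card_ge (zpowers_le.2 hxX)
    (by rw [Nat.card_zpowers, hxo, hX])).symm
  obtain ⟨x, hx⟩ : ∃ x : G, x = (xC : G) := ⟨_, rfl⟩
  have hxCz : x ∈ centralizer ({z} : Set G) := hx ▸ xC.2
  have hx3 : x ^ 3 = 1 := by
    rw [hx, ← hxo, ← Subgroup.orderOf_coe]; exact pow_orderOf_eq_one _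
  have hx1 : x ≠ 1 := fun h => by
    have : xC = 1 := Subtype.ext (hx.symm.trans h)
    rw [this, orderOf_one] at hxo
    norm_num at hxo
  have hmapX : X.map (centralizer ({z} : Set G)).subtype = zpowers x := by
    rw [hgen, MonoidHom.map_zpowers, hx]; rfl
  -- the commutator has small image
  set K := ⁅Q, X⁆ with hK
  have hKQ : K ≤ Q := commutator_le.2 fun q hq w _ => by
    rw [commutatorElement_def, show q * w * q⁻¹ * w⁻¹ = q * (w * q⁻¹ * w⁻¹) by group]
    exact mul_mem hq ((inferInstance : Q.Normal).conj_mem _ (inv_mem hq) w)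
  have hKQ' : ∀ k : K, ((k : centralizer ({z} : Set G)) : G) ∈ D.Q := fun k => hDQ ▸ mem_map_of_mem _ (hKQ k.2)
  let φ : K →* Multiplicative M8 := MonoidHom.mk' (fun k => Multiplicative.ofAdd (D.π ((k : centralizer ({z} : Set G)) : G)))
    fun a b => by
      show Multiplicative.ofAdd (D.π (((a : centralizer ({z} : Set G)) : G) * ((b : centralizer ({z} : Set G)) : G))) = _
      rw [D.π_mul _ (hKQ' a) _ (hKQ' b), ofAdd_add]
  obtain ⟨a, b, hab⟩ : ∃ a b : K, a * b ≠ b * a := by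
    by_contra hc
    push Not at hc
    exact hQXna ⟨⟨hc⟩⟩
  set w : K := a * b * a⁻¹ * b⁻¹ with hw
  have hw1 : w ≠ 1 := fun h => hab (mul_inv_eq_iff_eq_mul.1 (mul_inv_eq_one.1 h))
  have hwk : w ∈ φ.ker := by
    rw [MonoidHom.mem_ker, hw, map_mul, map_mul, map_mul, map_inv, map_inv, mul_comm (φ a), mul_inv_cancel_right,
      mul_inv_cancel]
  have hker2 : 2 ≤ Nat.card φ.ker := by
    haveI : Nontrivial φ.ker := ⟨⟨⟨w, hwk⟩, 1, fun h => hw1 (congrArg Subtype.val h)⟩⟩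
    exact Finite.one_lt_card
  have hran : Nat.card φ.range ≤ 4 := by
    have h := φ.ker.card_mul_index
    rw [index_ker, hQX] at h
    nlinarith
  set S := (Finset.univ : Finset M8).image (fun m => (hact D x).1 m + m) with hS
  have hsmall : S.card ≤ 4 := by
    have hmem : ∀ m ∈ S, Multiplicative.ofAdd m ∈ φ.range := by
      intro m hm
      obtain ⟨m', -, rfl⟩ := Finset.mem_image.1 hm
      obtain ⟨q, hq, rfl⟩ := D.π_surj m'
      obtain ⟨hcq, hcπ⟩ := π_commutator (D := D) hxCz hq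
      rw [hDQ] at hq
      obtain ⟨qC, hqC, rfl⟩ := hq
      have hk : xC * qC * xC⁻¹ * qC⁻¹ ∈ K := by
        rw [hK, commutator_comm, ← commutatorElement_def]
        exact commutator_mem_commutator hxX hqC
      refine ⟨⟨_, hk⟩, ?_⟩
      show Multiplicative.ofAdd (D.π ((xC : G) * (qC : G) * (xC : G)⁻¹ * (qC : G)⁻¹)) = _
      rw [← hx]
      exact congrArg Multiplicative.ofAdd hcπ
    have h1 : Nat.card S ≤ Nat.card φ.range := Nat.card_le_card_of_injective
      (fun m : S => (⟨Multiplicative.ofAdd m.1, hmem m.1 m.2⟩ : φ.range))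
      fun m n hmn => by
        have hmn' : Multiplicative.ofAdd (m : M8) = Multiplicative.ofAdd (n : M8) := congrArg (fun t : φ.range => (t : Multiplicative M8)) hmn
        exact Subtype.ext (Multiplicative.ofAdd.injective hmn')
    rw [Nat.card_eq_finsetCard] at h1
    exact h1.trans hran
  obtain ⟨h, -, T⟩ := exists_three D hxCz hx3 hx1 hsmall
  obtain ⟨g₀, ⟨hq₀, hg₀Q⟩, hg₀⟩ := hnwc
  have h₀ : g₀ * z * g₀⁻¹ ∈ (twist D h).Q := by
    show g₀ * z * g₀⁻¹ ∈ D.Q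
    rw [hDQ]; exact mem_map_of_mem _ hg₀Q
  set XG := X.map (centralizer ({z} : Set G)).subtype with hXG
  set Cx := centralizer (XG : Set G) with hCxd
  have hCx : ∀ c, c ∈ Cx ↔ c * x = x * c := fun c => by
    rw [hCxd, hmapX, zpowers_eq_closure, centralizer_closure, mem_centralizer_singleton_iff]
  have hXm : ∀ c : Cx, c ∈ XG.subgroupOf Cx ↔ (c : G) ∈ zpowers x := fun c => by
    rw [mem_subgroupOf, hmapX]
  obtain ⟨zY, QY, hn, hzY, hFY, hQY, hcY, ⟨eY⟩, hnY⟩ := T.setting Cx hCx (XG.subgroupOf Cx) hXm h₀ hg₀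
  haveI := hn
  have hiso := hSuz zY hzY QY hFY hQY hcY eY hnY
  exact ⟨T.quasisimple Cx hCx (XG.subgroupOf Cx) hXm h₀ hg₀ hiso, hiso⟩

end CfsgLib.Co1Suz
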